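import Cfsg.Agent.Lib.AlperinRankTwo.Main
import Cfsg.Prelude.Def_TwoFusion

/-!
# Alperin's fusion lemma for groups (helper91)

`group_conclusion` : a Sylow 2-subgroup of 2-rank two of a finite group without isolated involutions has one of the five
shapes.
-/

set_option autoImplicit false

namespace Cfsg.Agent.AlperinRankTwo

open Subgroup

variable {G : Type*} [Group G] [Finite G] (S : Sylow 2 G)

/-- A 2-subgroup of `C(z)` can be moved into `S` inside `C(z)`, for `z` central in `S`. -/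
theorem exists_conj_into {z : G} (hz : ∀ s ∈ (S : Subgroup G), s * z = z * s) {Q : Subgroup G} (hQ : IsPGroup 2 Q)
    (hQz : ∀ q ∈ Q, q * z = z * q) : ∃ c : G, c * z = z * c ∧ ∀ q ∈ Q, c * q * c⁻¹ ∈ (S : Subgroup G) := by
  haveI : Fact (Nat.Prime 2) := ⟨Nat.prime_two⟩
  set H := centralizer ({z} : Set G)
  have hSH : (S : Subgroup G) ≤ H := fun s hs => mem_centralizer_singleton_iff.2 (hz s hs)
  have hQH : Q ≤ H := fun q hq => mem_centralizer_singleton_iff.2 (hQz q hq)
  obtain ⟨R, hR⟩ := (hQ.comap_of_injective H.subtype H.subtype_injective).exists_le_sylow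
  obtain ⟨c, hc⟩ := MulAction.exists_smul_eq H R (S.subtype hSH)
  refine ⟨c, mem_centralizer_singleton_iff.1 c.2, fun q hq => ?_⟩
  have hmem : c * ⟨q, hQH hq⟩ * c⁻¹ ∈ ((c • R : Sylow 2 H) : Subgroup H) :=
    ⟨⟨q, hQH hq⟩, hR (by exact hq), rfl⟩
  rw [hc] at hmem
  exact hmem

theorem exists_map {z x : ↥(S : Subgroup G)} (hz : ∀ y, y * z = z * y) {k : G}
    (hk : k * (x : G) * k⁻¹ = z) :
    ∃ ψ : centralizer ({x} : Set ↥(S : Subgroup G)) →* ↥(S : Subgroup G),
      (∃ g : G, ∀ y : centralizer ({x} : Set ↥(S : Subgroup G)), (ψ y : G) = g * ((y : ↥(S : Subgroup G)) : G) * g⁻¹) ∧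
      ψ ⟨x, mem_centralizer_singleton_iff.2 rfl⟩ = z := by
  let Q : Subgroup G :=
    ((centralizer ({x} : Set ↥(S : Subgroup G))).map (S : Subgroup G).subtype).map (MulAut.conj k).toMonoidHom
  obtain ⟨c, hc, hcQ⟩ := exists_conj_into S (z := (z : G))
    (fun s hs => congrArg Subtype.val (hz ⟨s, hs⟩)) (Q := Q) ((((S.isPGroup').to_subgroup _).map _).map _) (by
      rintro _ ⟨_, ⟨y, hy, rfl⟩, rfl⟩
      have h : (y : G) * x = x * y := congrArg Subtype.val (mem_centralizer_singleton_iff.1 hy)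
      rw [← hk]
      show k * (y : G) * k⁻¹ * (k * x * k⁻¹) = k * x * k⁻¹ * (k * (y : G) * k⁻¹)
      calc _ = k * ((y : G) * x) * k⁻¹ := by group
        _ = k * ((x : G) * y) * k⁻¹ := by rw [h]
        _ = _ := by group)
  let ψ₀ : centralizer ({x} : Set ↥(S : Subgroup G)) →* G :=
    (MulAut.conj (c * k)).toMonoidHom.comp
      ((S : Subgroup G).subtype.comp (centralizer ({x} : Set ↥(S : Subgroup G))).subtype)
  have hψ₀ : ∀ y, ψ₀ y ∈ (S : Subgroup G) := fun y => by
    have h := hcQ _ ⟨_, ⟨(y : ↥(S : Subgroup G)), y.2, rfl⟩, rfl⟩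
    show c * k * ((y : ↥(S : Subgroup G)) : G) * (c * k)⁻¹ ∈ (S : Subgroup G)
    convert h using 1
    simp [MulAut.conj_apply, mul_assoc]
  refine ⟨ψ₀.codRestrict _ hψ₀, ⟨c * k, fun y => rfl⟩, Subtype.ext ?_⟩
  show c * k * (x : G) * (c * k)⁻¹ = z
  calc c * k * (x : G) * (c * k)⁻¹ = c * (k * x * k⁻¹) * c⁻¹ := by group
    _ = z := by rw [hk, hc, mul_inv_cancel_right]

/-- The fusion data of a group without isolated involutions. -/
noncomputable def groupFusion (hiso : ∀ z : G, ¬ Cfsg.IsIsolatedInvolution z) : Fusion ↥(S : Subgroup G) where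
  Rel P ψ := ∃ g : G, ∀ x : P, (ψ x : G) = g * ((x : ↥(S : Subgroup G)) : G) * g⁻¹
  injective := by
    rintro P ψ ⟨g, hg⟩ a b h
    have h' := congrArg Subtype.val h
    rw [hg, hg] at h'
    exact Subtype.ext (Subtype.ext (mul_left_cancel (mul_right_cancel h')))
  nonisolated z hz1 hz2 hzc := by
    have hord : orderOf (z : G) = 2 :=
      orderOf_eq_prime (by rw [pow_two]; exact congrArg Subtype.val hz2) (fun h => hz1 (Subtype.ext h))
    have h := hiso (z : G)
    simp only [Cfsg.IsIsolatedInvolution, hord, true_and, not_forall] at h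
    obtain ⟨g, hcomm, hne⟩ := h
    set w := g * (z : G) * g⁻¹ with hw
    have hw2 : w ^ 2 = 1 := by rw [hw, conj_pow, pow_two (z : G), show (z : G) * z = 1 from congrArg Subtype.val hz2]; group
    obtain ⟨c, hc, hcQ⟩ := exists_conj_into S (z := (z : G)) (fun s hs => congrArg Subtype.val (hzc ⟨s, hs⟩))
      (Q := zpowers w) (by
        rintro ⟨y, i, rfl⟩
        refine ⟨1, Subtype.ext ?_⟩
        show (w ^ i) ^ 2 ^ 1 = 1
        rw [pow_one, ← zpow_natCast, ← zpow_mul, mul_comm, zpow_mul, zpow_natCast, hw2, one_zpow])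
      (by rintro _ ⟨i, rfl⟩; exact (Commute.zpow_left hcomm.symm i).eq)
    refine ⟨⟨c * w * c⁻¹, hcQ w (mem_zpowers w)⟩, ?_⟩
    obtain ⟨ψ, hψ, hψx⟩ := exists_map S (x := ⟨c * w * c⁻¹, hcQ w (mem_zpowers w)⟩) hzc (k := (c * g)⁻¹) (by
      show (c * g)⁻¹ * (c * w * c⁻¹) * (c * g)⁻¹⁻¹ = (z : G)
      rw [hw]; group)
    refine ⟨ψ, fun h => hne ?_, hψ, hψx⟩
    have h' : c * w * c⁻¹ = (z : G) := congrArg Subtype.val h
    calc w = c⁻¹ * (c * w * c⁻¹) * c := by group
      _ = c⁻¹ * ((z : G) * c) := by rw [h']; group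
      _ = (z : G) := by rw [← hc]; group
  extend_inv := by
    rintro P ψ ⟨g, hg⟩ w hwc
    exact exists_map S hwc (k := g⁻¹) (by rw [hg w]; group)
  auto C _ := by
    haveI : Fact (Nat.Prime 2) := ⟨Nat.prime_two⟩
    set C' : Subgroup G := C.map (S : Subgroup G).subtype with hC'
    let e : C ≃* C' := C.equivMapOfInjective _ (S : Subgroup G).subtype_injective
    let hom : normalizer (C' : Set G) →* MulAut C :=
      (MulAut.congr e.symm).toMonoidHom.comp (normalizerMonoidHom C')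
    have hhom : ∀ (n : normalizer (C' : Set G)) (c : C),
        (((hom n c : C) : ↥(S : Subgroup G)) : G) = n * ((c : ↥(S : Subgroup G)) : G) * (n : G)⁻¹ := fun n c => by
      have h := congrArg Subtype.val (e.apply_symm_apply (normalizerMonoidHom C' n (e c)))
      exact h
    have hSN : (S : Subgroup G) ≤ normalizer (C' : Set G) := fun s hs =>
      PGroup.mem_normalizer_of_conj_le (by
        rintro _ ⟨c, hc, rfl⟩
        exact ⟨⟨s, hs⟩ * c * ⟨s, hs⟩⁻¹, (inferInstance : C.Normal).conj_mem c hc _, rfl⟩)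
    have hS : ∀ s : ↥(S : Subgroup G), hom ⟨s, hSN s.2⟩ = MulAut.conjNormal (H := C) s := fun s => by
      refine MulEquiv.ext fun c => Subtype.ext (Subtype.ext ?_)
      rw [hhom, MulAut.conjNormal_apply]
      rfl
    refine ⟨hom.range, ?_, ?_, ?_⟩
    · rintro _ ⟨s, rfl⟩
      exact ⟨_, hS s⟩
    · let S' : Sylow 2 (normalizer (C' : Set G)) := S.subtype hSN
      have hodd : Odd (S' : Subgroup (normalizer (C' : Set G))).index :=
        Nat.not_even_iff_odd.1 fun h => S'.not_dvd_index (even_iff_two_dvd.1 h)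
      have hle : (S' : Subgroup (normalizer (C' : Set G))).map hom.rangeRestrict ≤
          (MulAut.conjNormal (H := C)).range.subgroupOf hom.range := by
        rintro _ ⟨n, hn, rfl⟩
        exact ⟨⟨(n : G), hn⟩, (hS ⟨(n : G), hn⟩).symm⟩
      have h1 := Subgroup.index_dvd_of_le hle
      have h2 := Subgroup.index_map_dvd (S' : Subgroup (normalizer (C' : Set G))) hom.rangeRestrict_surjective
      exact Nat.not_even_iff_odd.1 fun h => S'.not_dvd_index ((even_iff_two_dvd.1 h).trans (h1.trans h2))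
    · rintro P ψ ⟨g, hg⟩ hCP α hα
      have hmem : g ∈ normalizer (C' : Set G) := PGroup.mem_normalizer_of_conj_le (by
        rintro _ ⟨c, hc, rfl⟩
        refine ⟨(α ⟨c, hc⟩ : C), (α ⟨c, hc⟩).2, ?_⟩
        show (((α ⟨c, hc⟩ : C) : ↥(S : Subgroup G)) : G) = g * (c : G) * g⁻¹
        rw [hα, hg])
      refine ⟨⟨g, hmem⟩, MulEquiv.ext fun c => Subtype.ext (Subtype.ext ?_)⟩
      rw [hhom, hα, hg]

theorem group_conclusion (h2 : Cfsg.PRankLE 2 2 G) (h1 : ¬ Cfsg.PRankLE 2 1 G)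
    (hiso : ∀ z : G, ¬ Cfsg.IsIsolatedInvolution z) {F : Type*} [Field F] [Fintype F] (hF : Fintype.card F = 16)
    (P : Sylow 2 (Cfsg.PSU 3 F 4)) : Conclusion ↥(S : Subgroup G) F P := by
  haveI : Fact (Nat.Prime 2) := ⟨Nat.prime_two⟩
  refine main S.isPGroup' (fun A hA hA2 => ?_) (fun h => h1 fun A hA hA2 => ?_) (groupFusion S hiso) hF P
  · rw [← Subgroup.card_map_of_injective (S : Subgroup G).subtype_injective]
    refine h2 _ ⟨⟨?_⟩⟩ ?_
    · rintro ⟨_, a, ha, rfl⟩ ⟨_, b, hb, rfl⟩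
      exact Subtype.ext (congrArg (fun x : A => ((x : ↥(S : Subgroup G)) : G)) (mul_comm' (⟨a, ha⟩ : A) ⟨b, hb⟩))
    · rintro _ ⟨a, ha, rfl⟩
      rw [← map_pow, hA2 a ha, map_one]
  · have hAp : IsPGroup 2 A := fun a => ⟨1, Subtype.ext (by rw [pow_one]; exact hA2 a a.2)⟩
    obtain ⟨R, hR⟩ := hAp.exists_le_sylow
    obtain ⟨g, hg⟩ := MulAction.exists_smul_eq G R S
    have hle : A.map (MulAut.conj g).toMonoidHom ≤ (S : Subgroup G) := by
      rw [← hg]
      exact Subgroup.map_mono hR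
    rw [← Subgroup.card_map_of_injective (f := (MulAut.conj g).toMonoidHom) (MulEquiv.injective _),
      ← Nat.card_congr (Subgroup.subgroupOfEquivOfLe hle).toEquiv]
    refine h _ ⟨⟨?_⟩⟩ ?_
    · rintro x y
      apply Subtype.ext
      apply Subtype.ext
      obtain ⟨a, ha, hax⟩ := x.2
      obtain ⟨b, hb, hby⟩ := y.2
      show ((x : ↥(S : Subgroup G)) : G) * ((y : ↥(S : Subgroup G)) : G) =
        ((y : ↥(S : Subgroup G)) : G) * ((x : ↥(S : Subgroup G)) : G)
      rw [show ((x : ↥(S : Subgroup G)) : G) = MulAut.conj g a from hax.symm,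
        show ((y : ↥(S : Subgroup G)) : G) = MulAut.conj g b from hby.symm, ← map_mul, ← map_mul,
        show a * b = b * a from congrArg Subtype.val (mul_comm' (⟨a, ha⟩ : A) ⟨b, hb⟩)]
    · intro x hx
      obtain ⟨a, ha, hax⟩ := hx
      apply Subtype.ext
      show (x : G) ^ 2 = 1
      rw [show (x : G) = MulAut.conj g a from hax.symm, ← map_pow, hA2 a ha, map_one]

end Cfsg.Agent.AlperinRankTwo
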