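import Cfsg.Prelude.Def_CaseTheorems
import Cfsg.Agent.Lib.PGroup.Basic
import Cfsg.Agent.Lib.PNormal.RankTwo
import Mathlib.GroupTheory.SpecificGroups.KleinFour

/-!
# 2-groups of 2-rank two with a normal four-subgroup (helper91)

`FourData` : a normal elementary abelian subgroup `U` of order four in a 2-group of 2-rank two, with the basic facts
about `C = C(U)`: involutions of `C` lie in `U`, `C` has index at most two.
-/

set_option autoImplicit false

namespace Cfsg.Agent.AlperinRankTwo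

open Subgroup

variable {T : Type*} [Group T]

/-- The standing hypotheses: a normal four-group in a finite 2-group of 2-rank two. -/
structure FourData (T : Type*) [Group T] [Finite T] where
  U : Subgroup T
  pgroup : IsPGroup 2 T
  rank : Cfsg.PRankLE 2 2 T
  normal : U.Normal
  elem : Cfsg.IsElementaryAbelian 2 U
  card : Nat.card U = 4

theorem four_cases [Finite T] {U : Subgroup T} (hU : Cfsg.IsElementaryAbelian 2 U) (h4 : Nat.card U = 4)
    {z u : T} (hz : z ∈ U) (hu : u ∈ U) (hz1 : z ≠ 1) (hu1 : u ≠ 1) (hzu : z ≠ u) :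
    z * u ∈ U ∧ z * u ≠ 1 ∧ z * u ≠ z ∧ z * u ≠ u ∧ ∀ x ∈ U, x = 1 ∨ x = z ∨ x = u ∨ x = z * u := by
  classical
  have huu : u * u = 1 := by rw [← pow_two]; exact hU.2 u hu
  have h1 : z * u ≠ 1 := fun h => hzu (mul_right_cancel (h.trans huu.symm))
  have h2 : z * u ≠ z := fun h => hu1 (mul_eq_left.1 h)
  have h3 : z * u ≠ u := fun h => hz1 (mul_eq_right.1 h)
  refine ⟨mul_mem hz hu, h1, h2, h3, fun x hx => ?_⟩
  have hsub : (({1, z, u, z * u} : Finset T) : Set T) ⊆ (U : Set T) := by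
    simp only [Finset.coe_insert, Finset.coe_singleton, Set.insert_subset_iff, Set.singleton_subset_iff]
    exact ⟨one_mem U, hz, hu, mul_mem hz hu⟩
  have hc : ({1, z, u, z * u} : Finset T).card = 4 :=
    Finset.card_eq_four.2 ⟨_, _, _, _, hz1.symm, hu1.symm, h1.symm, hzu, h2.symm, h3.symm, rfl⟩
  have heq := Set.eq_of_subset_of_ncard_le hsub
    (by rw [Set.ncard_coe_finset, hc, ← Nat.card_coe_set_eq, SetLike.coe_sort_coe, h4]) (Set.toFinite _)
  have : x ∈ (({1, z, u, z * u} : Finset T) : Set T) := heq.symm ▸ hx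
  simpa using this

variable [Finite T]

theorem four_exists_other {U : Subgroup T} (h4 : Nat.card U = 4) (z : T) : ∃ u ∈ U, u ≠ 1 ∧ z ≠ u := by
  classical
  by_contra h
  push Not at h
  have hsub : (U : Set T) ⊆ (({1, z} : Finset T) : Set T) := fun w hw => by
    simp only [Finset.coe_insert, Finset.coe_singleton, Set.mem_insert_iff, Set.mem_singleton_iff]
    exact or_iff_not_imp_left.2 fun hw1 => (h w hw hw1).symm
  have := Set.ncard_le_ncard hsub (Set.toFinite _)
  rw [Set.ncard_coe_finset, ← Nat.card_coe_set_eq, SetLike.coe_sort_coe, h4] at this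
  exact absurd (this.trans Finset.card_le_two) (by norm_num)

namespace FourData

variable (d : FourData T)

theorem sq_one {v : T} (hv : v ∈ d.U) : v * v = 1 := by rw [← pow_two]; exact d.elem.2 v hv

theorem comm {v w : T} (hv : v ∈ d.U) (hw : w ∈ d.U) : v * w = w * v := by
  haveI := d.elem.1
  exact congrArg Subtype.val (mul_comm' (⟨v, hv⟩ : d.U) ⟨w, hw⟩)

theorem involution_mem {v : T} (hv : v * v = 1) (hc : ∀ u ∈ d.U, Commute v u) : v ∈ d.U := by
  haveI : Fact (Nat.Prime 2) := ⟨Nat.prime_two⟩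
  by_contra hn
  have hE : Cfsg.IsElementaryAbelian 2 (d.U ⊔ zpowers v) :=
    PNormal.elementary_sup d.elem hc (by rw [pow_two, hv])
  have hle := d.rank _ hE.1 hE.2
  have hlt : (d.U : Set T) ⊂ (d.U ⊔ zpowers v : Subgroup T) :=
    Set.ssubset_iff_of_subset (SetLike.coe_subset_coe.2 le_sup_left) |>.2
      ⟨v, mem_sup_right (mem_zpowers v), hn⟩
  have := Set.ncard_lt_ncard hlt (Set.toFinite _)
  rw [← Nat.card_coe_set_eq, ← Nat.card_coe_set_eq, SetLike.coe_sort_coe, SetLike.coe_sort_coe, d.card] at this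
  omega

/-- The centraliser of `U`. -/
def C : Subgroup T := centralizer (d.U : Set T)

theorem mem_C {x : T} : x ∈ d.C ↔ ∀ u ∈ d.U, u * x = x * u := mem_centralizer_iff

theorem U_le_C : d.U ≤ d.C := fun _ hv => d.mem_C.2 fun _ hu => d.comm hu hv

theorem C_normal : d.C.Normal := by
  haveI := d.normal
  refine ⟨fun x hx g => d.mem_C.2 fun u hu => ?_⟩
  have h := d.mem_C.1 hx _ (d.normal.conj_mem u hu g⁻¹)
  rw [inv_inv] at h
  calc u * (g * x * g⁻¹) = g * (g⁻¹ * u * g * x) * g⁻¹ := by group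
    _ = g * (x * (g⁻¹ * u * g)) * g⁻¹ := by rw [h]
    _ = g * x * g⁻¹ * u := by group

theorem involution_mem_of_C {v : T} (hvC : v ∈ d.C) (hv : v * v = 1) : v ∈ d.U :=
  d.involution_mem hv fun u hu => (d.mem_C.1 hvC u hu).symm

theorem exists_central : ∃ z ∈ d.U, z ≠ 1 ∧ ∀ x : T, x * z = z * x := by
  haveI : Fact (Nat.Prime 2) := ⟨Nat.prime_two⟩
  haveI := d.normal
  have hne : d.U ≠ ⊥ := fun h => by
    have := d.card
    rw [h, Subgroup.card_bot] at this
    omega
  obtain ⟨⟨z, hz⟩, hz1⟩ := (Subgroup.ne_bot_iff_exists_ne_one (H := d.U ⊓ center T)).1 (PGroup.inf_center_ne_bot d.pgroup hne)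
  replace hz1 : z ≠ 1 := fun h => hz1 (Subtype.ext h)
  exact ⟨z, hz.1, hz1, fun x => mem_center_iff.1 hz.2 x⟩

end FourData

end Cfsg.Agent.AlperinRankTwo
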