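import Cfsg.Agent.S5113
import Cfsg.Agent.S5120
import Cfsg.Agent.Lib.Fusion.Saturation

/-!
# A simple fusion system has no subgroup of index two containing the focal generators (helper91)
-/

set_option autoImplicit false

namespace Cfsg.Agent.AlperinRankTwo

open Cfsg.FusionSystem Cfsg.Agent.Fusion

variable {Ω : Type*} [Group Ω] {S : Subgroup Ω} [Finite S] {F : Cfsg.FusionSystem S}

theorem false_of_relIndex_two (hS : IsPGroup 2 S) (hs : F.IsSimple 2) (h4 : 4 ≤ Nat.card S) {T : Subgroup Ω}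
    (hTS : T ≤ S) (hT : T.relIndex S = 2)
    (hgen : ∀ (P : Subgroup Ω) (f : Ω → Ω), IsMap F P f → ∀ x ∈ P, x⁻¹ * f x ∈ T) : False := by
  have : Fact (Nat.Prime 2) := ⟨Nat.prime_two⟩
  have hle : F.hyperfocalSubgroup 2 ≤ T := by
    refine (Subgroup.closure_le T).2 ?_
    rintro _ ⟨P, ⟨α, hα⟩, x, hP, -, rfl⟩
    have h := hgen P _ ((mem_autGroup_iff hP).1 hα) x x.2
    rwa [autFn_apply α x.2] at h
  obtain ⟨E, ⟨hEs, hEi⟩, -⟩ := S5113.result 2 hS F hs.1 T hTS hle
  rcases hs.2.2 T E (S5120.result 2 hS F hs.1 T hTS (Subgroup.normal_of_index_eq_two hT) hle E hEs hEi) with h | ⟨h, -⟩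
  · rw [h, Subgroup.relIndex_bot_left] at hT
    omega
  · rw [h, Subgroup.relIndex_self] at hT
    omega

end Cfsg.Agent.AlperinRankTwo
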