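import Cfsg.Prelude.Def_CaseTheorems
import Cfsg.Agent.Lib.Homocyclic.Sylow
import Mathlib.GroupTheory.Perm.Sign
import Mathlib.GroupTheory.Sylow

/-!
# Three-cycles among automorphisms permuting three involutions (helper91)

`Invols C` : the involutions of `C`; `permHom` : the action of `MulAut C` on them.
`exists_rotation` : if `A ≤ MulAut C` has a Sylow 2-subgroup `R` fixing an involution moved by `A`, then some element of
odd order of `A` permutes the three involutions transitively and without fixed point.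
`exists_inverted` : if moreover some element of `R` moves an involution, one such element is inverted by an element of
`A` that is conjugate into `R`.
-/

set_option autoImplicit false

namespace Cfsg.Agent.AlperinRankTwo

open Subgroup

variable {C : Type*} [Group C]

/-- The involutions of `C`. -/
abbrev Invols (C : Type*) [Group C] : Type _ := {v : C // v * v = 1 ∧ v ≠ 1}

/-- The action of automorphisms on the involutions. -/
def permHom (C : Type*) [Group C] : MulAut C →* Equiv.Perm (Invols C) where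
  toFun α := α.toEquiv.subtypeEquiv fun v => by
    show v * v = 1 ∧ v ≠ 1 ↔ α v * α v = 1 ∧ α v ≠ 1
    rw [← map_mul, map_eq_one_iff α α.injective, ne_eq, ne_eq, map_eq_one_iff α α.injective]
  map_one' := by ext; rfl
  map_mul' α β := by ext; rfl

theorem permHom_apply (α : MulAut C) (v : Invols C) : ((permHom C α v).1) = α v.1 := rfl

theorem perm3_orbit {V : Type*} (hV : Nat.card V = 3) (σ : Equiv.Perm V) (h1 : σ ≠ 1) (h3 : σ ^ 3 = 1) :
    (∀ v, σ v ≠ v ∧ σ (σ v) ≠ v) ∧ ∀ v w, ∃ k : ℕ, (σ ^ k) v = w := by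
  classical
  haveI : Finite V := Nat.finite_of_card_ne_zero (by omega)
  have hfix : ∀ v, σ v ≠ v := fun v hv => h1 (Homocyclic.perm3_fix hV σ v h3 hv)
  have h3' : ∀ v, σ (σ (σ v)) = v := fun v => by
    have := congrArg (fun τ : Equiv.Perm V => τ v) h3
    simpa [pow_succ] using this
  have hfix2 : ∀ v, σ (σ v) ≠ v := fun v hv => by
    have := h3' v
    rw [hv] at this
    exact hfix v this
  refine ⟨fun v => ⟨hfix v, hfix2 v⟩, fun v w => ?_⟩
  haveI := Fintype.ofFinite V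
  have hc : ({v, σ v, σ (σ v)} : Finset V).card = 3 :=
    Finset.card_eq_three.2 ⟨_, _, _, (hfix v).symm, (hfix2 v).symm, (hfix (σ v)).symm, rfl⟩
  have hu : ({v, σ v, σ (σ v)} : Finset V) = Finset.univ :=
    Finset.eq_univ_of_card _ (by rw [hc, ← Nat.card_eq_fintype_card, hV])
  have hw : w ∈ ({v, σ v, σ (σ v)} : Finset V) := hu ▸ Finset.mem_univ w
  simp only [Finset.mem_insert, Finset.mem_singleton] at hw
  rcases hw with rfl | rfl | rfl
  exacts [⟨0, rfl⟩, ⟨1, rfl⟩, ⟨2, rfl⟩]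

variable [Finite C]

/-- An automorphism of odd order inducing a three-cycle has no nontrivial fixed points, nor has its square. -/
theorem fixedPointFree (hpC : IsPGroup 2 C) (hI : Nat.card (Invols C) = 3) (φ : MulAut C)
    (h1 : permHom C φ ≠ 1) (h3 : permHom C φ ^ 3 = 1) :
    (∀ c, φ c = c → c = 1) ∧ (∀ c, φ (φ c) = c → c = 1) ∧
      ∀ v w : C, v * v = 1 → v ≠ 1 → w * w = 1 → w ≠ 1 → ∃ k : ℕ, (φ ^ k) v = w := by
  obtain ⟨hf, ho⟩ := perm3_orbit hI _ h1 h3
  have key : ∀ c : C, c ≠ 1 → ∃ m : ℕ, c ^ m * c ^ m = 1 ∧ c ^ m ≠ 1 := by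
    intro c hc
    obtain ⟨k, hk⟩ := hpC c
    obtain ⟨i, hi, hio⟩ := (Nat.dvd_prime_pow Nat.prime_two).1 (orderOf_dvd_of_pow_eq_one hk)
    obtain ⟨l, rfl⟩ : ∃ l, i = l + 1 :=
      ⟨i - 1, by
        rcases i with _ | i
        · exact absurd (orderOf_eq_one_iff.1 (by rw [hio, pow_zero])) hc
        · rfl⟩
    refine ⟨2 ^ l, by rw [← pow_add, ← two_mul, ← pow_succ', ← hio, pow_orderOf_eq_one], fun h => ?_⟩
    have := Nat.le_of_dvd (by positivity) (orderOf_dvd_of_pow_eq_one h)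
    rw [hio, pow_succ'] at this
    have : 0 < 2 ^ l := by positivity
    omega
  refine ⟨fun c hc => ?_, fun c hc => ?_, fun v w hv hv1 hw hw1 => ?_⟩
  · by_contra hne
    obtain ⟨m, hm, hm1⟩ := key c hne
    exact (hf ⟨c ^ m, hm, hm1⟩).1 (Subtype.ext (by rw [permHom_apply, map_pow, hc]))
  · by_contra hne
    obtain ⟨m, hm, hm1⟩ := key c hne
    exact (hf ⟨c ^ m, hm, hm1⟩).2 (Subtype.ext (by rw [permHom_apply, permHom_apply, map_pow, map_pow, hc]))
  · obtain ⟨k, hk⟩ := ho ⟨v, hv, hv1⟩ ⟨w, hw, hw1⟩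
    refine ⟨k, ?_⟩
    rw [← map_pow] at hk
    exact (permHom_apply (φ ^ k) ⟨v, hv, hv1⟩).symm.trans (congrArg Subtype.val hk)

variable (A R : Subgroup (MulAut C))

/-- The action of `A` on the involutions. -/
def actHom : A →* Equiv.Perm (Invols C) := (permHom C).comp A.subtype

variable {A R}

theorem three_dvd (hI : Nat.card (Invols C) = 3) (hodd : Odd (R.subgroupOf A).index) (z : Invols C)
    (hRz : ∀ ρ ∈ R, permHom C ρ z = z) {α : MulAut C} (hα : α ∈ A) (hαz : permHom C α z ≠ z) :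
    3 ∣ Nat.card (actHom A).range := by
  classical
  haveI : Finite (Invols C) := Nat.finite_of_card_ne_zero (by rw [hI]; omega)
  have hdvd : Nat.card (actHom A).range ∣ 6 := by
    have h := (actHom A).range.card_subgroup_dvd_card
    rwa [Nat.card_perm, hI] at h
  by_contra h3
  have h2 : Nat.card (actHom A).range ∣ 2 := by
    have h6 := Nat.le_of_dvd (by norm_num) hdvd
    revert hdvd h3
    generalize Nat.card (actHom A).range = k at h6 ⊢
    interval_cases k <;> norm_num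
  set M := (R.subgroupOf A).map (actHom A).rangeRestrict
  have hidx : M.index ∣ (R.subgroupOf A).index := Subgroup.index_map_dvd _ (actHom A).rangeRestrict_surjective
  have h1 : M.index = 1 :=
    Nat.dvd_one.1 ((Nat.coprime_two_right.2 hodd : Nat.Coprime _ 2) ▸
      Nat.dvd_gcd hidx ((M.index_dvd_card).trans h2))
  have hmem : (actHom A).rangeRestrict ⟨α, hα⟩ ∈ M := (Subgroup.index_eq_one.1 h1).symm ▸ Subgroup.mem_top _
  obtain ⟨ρ, hρ, hρeq⟩ := hmem
  have h : permHom C (ρ : MulAut C) = permHom C α := congrArg Subtype.val hρeq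
  exact hαz (by rw [← h]; exact hRz _ hρ)

theorem exists_rotation_aux (hI : Nat.card (Invols C) = 3) (h3 : 3 ∣ Nat.card (actHom A).range)
    (P : Sylow 3 A) : ∃ π ∈ (P : Subgroup A), actHom A π ≠ 1 ∧ actHom A π ^ 3 = 1 := by
  classical
  haveI : Fact (Nat.Prime 3) := ⟨Nat.prime_three⟩
  haveI : Finite (Invols C) := Nat.finite_of_card_ne_zero (by rw [hI]; omega)
  let Q := P.mapSurjective (actHom A).rangeRestrict_surjective
  have hne : (Q : Subgroup (actHom A).range) ≠ ⊥ := Q.ne_bot_of_dvd_card h3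
  obtain ⟨⟨q, ⟨π, hπ, rfl⟩⟩, hq⟩ := (Subgroup.ne_bot_iff_exists_ne_one).1 hne
  have hne1 : actHom A π ≠ 1 := fun h => hq (Subtype.ext (Subtype.ext h))
  refine ⟨π, hπ, hne1, ?_⟩
  obtain ⟨k, hk⟩ := P.isPGroup' ⟨π, hπ⟩
  have hk' : π ^ 3 ^ k = 1 := congrArg Subtype.val hk
  have h1 : orderOf (actHom A π) ∣ 3 ^ k := orderOf_dvd_of_pow_eq_one (by rw [← map_pow, hk', map_one])
  have h2 : orderOf (actHom A π) ∣ 6 := by
    have h := orderOf_dvd_natCard (actHom A π)
    rwa [Nat.card_perm, hI] at h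
  rw [← orderOf_dvd_iff_pow_eq_one]
  obtain ⟨i, hi, hio⟩ := (Nat.dvd_prime_pow Nat.prime_three).1 h1
  rw [hio] at h2 ⊢
  rcases i with _ | _ | i
  · norm_num
  · norm_num
  · exact absurd ((pow_dvd_pow 3 (show 2 ≤ i + 1 + 1 by omega)).trans h2) (by norm_num)

theorem exists_rotation (hpC : IsPGroup 2 C) (hI : Nat.card (Invols C) = 3) (hodd : Odd (R.subgroupOf A).index)
    (z : Invols C) (hRz : ∀ ρ ∈ R, permHom C ρ z = z) {α : MulAut C} (hα : α ∈ A)
    (hαz : permHom C α z ≠ z) :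
    ∃ φ ∈ A, (∀ c, φ c = c → c = 1) ∧
      ∀ v w : C, v * v = 1 → v ≠ 1 → w * w = 1 → w ≠ 1 → ∃ k : ℕ, (φ ^ k) v = w := by
  haveI : Fact (Nat.Prime 3) := ⟨Nat.prime_three⟩
  obtain ⟨π, -, h1, h3⟩ := exists_rotation_aux hI (three_dvd hI hodd z hRz hα hαz) default
  obtain ⟨hf, -, ht⟩ := fixedPointFree hpC hI (π : MulAut C) h1 h3
  exact ⟨π, π.2, hf, ht⟩

/-- The inner automorphisms. -/
def inn (C : Type*) [Group C] : Subgroup (MulAut C) := (MulAut.conj (G := C)).range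

theorem exists_inverted (hpC : IsPGroup 2 C) (hI : Nat.card (Invols C) = 3) (hRA : R ≤ A)
    (hR2 : IsPGroup 2 R) (hodd : Odd (R.subgroupOf A).index)
    (hsq : ∀ ρ ∈ R, ρ * ρ ∈ inn C)
    (z : Invols C) (hRz : ∀ ρ ∈ R, permHom C ρ z = z) {α : MulAut C} (hα : α ∈ A)
    (hαz : permHom C α z ≠ z) (hmove : ∃ ρ ∈ R, permHom C ρ ≠ 1) :
    ∃ σ ∈ R, ∃ φ : MulAut C, permHom C σ ≠ 1 ∧ (∀ c, φ c = c → c = 1) ∧ (∀ c, φ (φ c) = c → c = 1) ∧
      (∀ v w : C, v * v = 1 → v ≠ 1 → w * w = 1 → w ≠ 1 → ∃ k : ℕ, (φ ^ k) v = w) ∧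
      ∀ c, σ (φ c) = φ⁻¹ (σ c) := by
  classical
  haveI : Fact (Nat.Prime 3) := ⟨Nat.prime_three⟩
  haveI : Fact (Nat.Prime 2) := ⟨Nat.prime_two⟩
  haveI : Finite (Invols C) := Nat.finite_of_card_ne_zero (by rw [hI]; omega)
  haveI := Fintype.ofFinite (Invols C)
  have hswap : ∀ (τ : Equiv.Perm (Invols C)), τ ≠ 1 → τ z = z →
      Equiv.Perm.sign τ = -1 ∧ ∀ v, τ v = v → v = z := by
    intro τ hτ hτz
    have hone : ∀ v, τ v = v → v = z := by
      intro v hv
      by_contra hvz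
      refine hτ (Equiv.ext fun w => ?_)
      show τ w = w
      by_contra hw
      have hsub : ({v, z, w, τ w} : Finset (Invols C)).card = 4 := by
        refine Finset.card_eq_four.2 ⟨_, _, _, _, hvz, ?_, ?_, ?_, ?_, Ne.symm hw, rfl⟩
        · exact fun h => hw (h ▸ hv)
        · exact fun h => hw (by rw [← h]; exact τ.injective (hv.trans h))
        · exact fun h => hw (h ▸ hτz)
        · exact fun h => hw (by rw [← h]; exact τ.injective (hτz.trans h))
      have hle := Finset.card_le_univ ({v, z, w, τ w} : Finset (Invols C))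
      rw [← Nat.card_eq_fintype_card, hI, hsub] at hle
      omega
    refine ⟨?_, hone⟩
    have hs : τ.support = Finset.univ.erase z := by
      ext v
      simp only [Equiv.Perm.mem_support, Finset.mem_erase, Finset.mem_univ, and_true]
      exact ⟨fun h hv => h (hv ▸ hτz), fun h hv => h (hone v hv)⟩
    have h2 : τ.support.card = 2 := by
      rw [hs, Finset.card_erase_of_mem (Finset.mem_univ z), Finset.card_univ, ← Nat.card_eq_fintype_card, hI]
    exact (Equiv.Perm.card_support_eq_two.1 h2).sign_eq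
  let sg : A →* ℤˣ := Equiv.Perm.sign.comp (actHom A)
  set K := sg.ker
  obtain ⟨P⟩ := (inferInstance : Nonempty (Sylow 3 A))
  have hPK : (P : Subgroup A) ≤ K := by
    intro x hx
    obtain ⟨k, hk⟩ := P.isPGroup' ⟨x, hx⟩
    have hk' : x ^ 3 ^ k = 1 := congrArg Subtype.val hk
    show sg x = 1
    have h : sg x ^ 3 ^ k = 1 := by rw [← map_pow, hk', map_one]
    rcases Int.units_eq_one_or (sg x) with h' | h'
    · exact h'
    · rw [h', Odd.neg_one_pow (Odd.pow (by decide))] at h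
      exact absurd h (by decide)
  have htop := Sylow.normalizer_sup_eq_top' P hPK
  obtain ⟨ρ, hρR, hρ1⟩ := hmove
  obtain ⟨hρs, -⟩ := hswap _ hρ1 (hRz ρ hρR)
  obtain ⟨β, hβN, hβs⟩ : ∃ β ∈ Subgroup.normalizer ((P : Subgroup A) : Set A), sg β = -1 := by
    have hmem : (⟨ρ, hRA hρR⟩ : A) ∈ Subgroup.normalizer ((P : Subgroup A) : Set A) ⊔ K := htop ▸ Subgroup.mem_top _
    obtain ⟨b, hb, k, hk, he⟩ := Subgroup.mem_sup_of_normal_right.1 hmem
    refine ⟨b, hb, ?_⟩
    have h := congrArg sg he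
    rw [map_mul, show sg k = 1 from hk, mul_one] at h
    exact h.trans hρs
  -- a power of two-power order
  obtain ⟨e, m, hm, heq⟩ := Nat.exists_eq_pow_mul_and_not_dvd (orderOf_pos β).ne' 2 (by norm_num)
  set γ := β ^ m with hγ
  have hγs : sg γ = -1 := by
    rw [hγ, map_pow, hβs, Odd.neg_one_pow (Nat.odd_iff.2 (by omega))]
  have hγ2 : γ ^ 2 ^ e = 1 := by rw [hγ, ← pow_mul, mul_comm, ← heq, pow_orderOf_eq_one]
  have hzp : IsPGroup 2 (zpowers γ) := by
    rintro ⟨x, i, rfl⟩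
    refine ⟨e, Subtype.ext ?_⟩
    show (γ ^ i) ^ 2 ^ e = 1
    rw [← zpow_natCast, ← zpow_mul, mul_comm, zpow_mul, zpow_natCast, hγ2, one_zpow]
  obtain ⟨Q, hQ⟩ := hzp.exists_le_sylow
  let R2 : Sylow 2 A := (hR2.comap_of_injective A.subtype A.subtype_injective).toSylow (fun h => by
    exact (Nat.not_even_iff_odd.2 hodd) (even_iff_two_dvd.2 h))
  obtain ⟨g, hg⟩ := MulAction.exists_smul_eq A Q R2
  have hgγ : g * γ * g⁻¹ ∈ R.subgroupOf A := by
    have : g * γ * g⁻¹ ∈ ((g • Q : Sylow 2 A) : Subgroup A) :=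
      ⟨γ, hQ (mem_zpowers γ), rfl⟩
    rw [hg] at this
    exact this
  set σ' := g * γ * g⁻¹ with hσ'
  obtain ⟨π₀, hπ₀, hπ1, hπ3⟩ := exists_rotation_aux hI (three_dvd hI hodd z hRz hα hαz) P
  set π := g * π₀ * g⁻¹ with hπdef
  have hσP : ∀ x ∈ (g • P : Sylow 3 A), σ' * x * σ'⁻¹ ∈ (g • P : Sylow 3 A) := by
    rintro _ ⟨y, hy, rfl⟩
    refine ⟨γ * y * γ⁻¹, (Subgroup.mem_normalizer_iff.1 (pow_mem hβN m) y).1 hy, ?_⟩
    show g * (γ * y * γ⁻¹) * g⁻¹ = σ' * (g * y * g⁻¹) * σ'⁻¹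
    rw [hσ']; group
  have hπP : π ∈ (g • P : Sylow 3 A) := ⟨π₀, hπ₀, rfl⟩
  set φ' : A := π⁻¹ * (σ' * π * σ'⁻¹) with hφ'
  have hσR : (σ' : MulAut C) ∈ R := hgγ
  have hσsg : sg σ' = -1 := by
    rw [hσ', map_mul, map_mul, map_inv, mul_comm (sg g), mul_inv_cancel_right, hγs]
  have hσne : permHom C (σ' : MulAut C) ≠ 1 := by
    intro h
    have h' : sg σ' = Equiv.Perm.sign (permHom C (σ' : MulAut C)) := rfl
    rw [h, map_one, hσsg] at h'
    exact absurd h' (by decide)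
  obtain ⟨-, hσfix⟩ := hswap _ hσne (hRz _ hσR)
  have hcomm : σ' * σ' * π = π * (σ' * σ') := by
    set q := σ' * σ' * π * (σ' * σ')⁻¹ * π⁻¹ with hq
    have hqP : q ∈ (g • P : Sylow 3 A) := by
      refine mul_mem ?_ (inv_mem hπP)
      have := hσP _ (hσP _ hπP)
      convert this using 1
      group
    have hqI : ((q : A) : MulAut C) ∈ inn C := by
      obtain ⟨a, ha⟩ := hsq _ hσR
      have hc : ∀ (α : MulAut C) (b : C), α * MulAut.conj b * α⁻¹ = MulAut.conj (α b) := fun α b => by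
        ext x; simp
      refine ⟨a * ((π : MulAut C) a⁻¹), ?_⟩
      rw [map_mul, ← hc, map_inv, ha, hq]
      simp only [Subgroup.coe_mul, Subgroup.coe_inv, mul_assoc, mul_inv_rev]
    obtain ⟨i, hi⟩ := (g • P : Sylow 3 A).isPGroup' ⟨q, hqP⟩
    obtain ⟨a, ha⟩ := hqI
    obtain ⟨j, hj⟩ := hpC a
    have h1 : orderOf (q : MulAut C) ∣ 3 ^ i := orderOf_dvd_of_pow_eq_one (by
      rw [← Subgroup.coe_pow]
      exact congrArg (fun x : A => (x : MulAut C)) (congrArg Subtype.val hi))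
    have h2 : orderOf (q : MulAut C) ∣ 2 ^ j := orderOf_dvd_of_pow_eq_one (by rw [← ha, ← map_pow, hj, map_one])
    have h := Nat.eq_one_of_dvd_coprimes ((Nat.coprime_primes Nat.prime_three Nat.prime_two).2 (by norm_num)
      |>.pow i j) h1 h2
    have hq1 : q = 1 := Subtype.ext (orderOf_eq_one_iff.1 h)
    rw [hq, mul_inv_eq_one, mul_inv_eq_iff_eq_mul] at hq1
    exact hq1
  have hinv : σ' * φ' = φ'⁻¹ * σ' := by
    rw [hφ']
    calc σ' * (π⁻¹ * (σ' * π * σ'⁻¹)) = σ' * π⁻¹ * σ'⁻¹ * (σ' * σ' * π) * σ'⁻¹ := by group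
      _ = σ' * π⁻¹ * σ'⁻¹ * (π * (σ' * σ')) * σ'⁻¹ := by rw [hcomm]
      _ = (π⁻¹ * (σ' * π * σ'⁻¹))⁻¹ * σ' := by group
  have hf3 : actHom A π ^ 3 = 1 := by
    rw [hπdef, map_mul, map_mul, map_inv, conj_pow, hπ3]; group
  have hπne : actHom A π ≠ 1 := by
    intro h
    apply hπ1
    rw [hπdef, map_mul, map_mul, map_inv] at h
    exact conj_eq_one_iff.1 h
  obtain ⟨hπfix, -⟩ := perm3_orbit hI _ hπne hf3
  have hφ1 : actHom A φ' ≠ 1 := by
    intro h
    have h' : actHom A π = actHom A σ' * actHom A π * (actHom A σ')⁻¹ := by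
      rw [← map_mul, ← map_inv, ← map_mul]
      exact inv_mul_eq_one.1 (by rw [← map_inv, ← map_mul]; exact h)
    rw [eq_mul_inv_iff_mul_eq] at h'
    have hz : actHom A σ' z = z := hRz _ hσR
    have := congrArg (fun τ : Equiv.Perm (Invols C) => τ z) h'
    simp only [Equiv.Perm.mul_apply, hz] at this
    exact (hπfix z).1 (hσfix _ this.symm)
  have hφ3 : actHom A φ' ^ 3 = 1 := by
    obtain ⟨i, hi⟩ := (g • P : Sylow 3 A).isPGroup' ⟨φ', mul_mem (inv_mem hπP) (hσP _ hπP)⟩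
    have hk' : φ' ^ 3 ^ i = 1 := congrArg Subtype.val hi
    have h1 : orderOf (actHom A φ') ∣ 3 ^ i := orderOf_dvd_of_pow_eq_one (by rw [← map_pow, hk', map_one])
    have h2 : orderOf (actHom A φ') ∣ 3 * 2 := by
      have h := orderOf_dvd_natCard (actHom A φ')
      rwa [Nat.card_perm, hI] at h
    exact orderOf_dvd_iff_pow_eq_one.1
      ((Nat.Coprime.coprime_dvd_left h1 (Nat.Coprime.pow_left i (by norm_num))).dvd_of_dvd_mul_right h2)
  obtain ⟨hf, hf2, ht⟩ := fixedPointFree hpC hI (φ' : MulAut C) hφ1 hφ3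
  refine ⟨σ', hσR, φ', hσne, hf, hf2, ht, fun c => ?_⟩
  have := congrArg (fun x : A => (x : MulAut C) c) hinv
  simpa using this

end Cfsg.Agent.AlperinRankTwo
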