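import Cfsg.Agent.Lib.SuzukiTwo.SixtyFour
import Mathlib.GroupTheory.QuotientGroup.Basic

/-!
# The Suzuki 2-group of order 64 has no inverting involution (helper91)

`false_of_sixty` : there is no automorphism of order two inverting an automorphism acting without fixed points,
fixing only one involution.
-/

set_option autoImplicit false

open scoped commutatorElement

namespace Cfsg.Agent.AlperinRankTwo

open Cfsg.Agent.SuzukiTwo.SixtyFour Subgroup

variable {C : Type*} [Group C] [Finite C] {V : Subgroup C}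

/-- In a four-group `V ⊇ ⟨z⟩` the product of two elements outside `⟨z⟩` lies in `⟨z⟩`. -/
theorem mul_mem_of_index_two (hV2 : ∀ v ∈ V, v⁻¹ = v) {z : C}
    (hN : ∀ {x}, x ∈ zpowers z ↔ x = 1 ∨ x = z) (h4 : Nat.card V = 4) (hz : z ∈ V) (hz1 : z ≠ 1)
    {p q : C} (hp : p ∈ V) (hq : q ∈ V) (hpN : p ∉ zpowers z) (hqN : q ∉ zpowers z) :
    p * q ∈ zpowers z := by
  classical
  rw [hN] at hpN hqN ⊢
  push Not at hpN hqN
  by_cases hpq : p = q
  · left
    rw [hpq]
    nth_rewrite 1 [← hV2 q hq]
    exact inv_mul_cancel q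
  have hsub : (({1, z, p, q} : Finset C) : Set C) ⊆ (V : Set C) := by
    simp only [Finset.coe_insert, Finset.coe_singleton, Set.insert_subset_iff, Set.singleton_subset_iff]
    exact ⟨one_mem V, hz, hp, hq⟩
  have hc : ({1, z, p, q} : Finset C).card = 4 :=
    Finset.card_eq_four.2 ⟨_, _, _, _, hz1.symm, hpN.1.symm, hqN.1.symm, hpN.2.symm, hqN.2.symm, hpq, rfl⟩
  have heq := Set.eq_of_subset_of_ncard_le hsub
    (by rw [Set.ncard_coe_finset, hc, ← Nat.card_coe_set_eq, SetLike.coe_sort_coe, h4]) (Set.toFinite _)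
  have hmem : p * q ∈ (({1, z, p, q} : Finset C) : Set C) := heq.symm ▸ mul_mem hp hq
  simp only [Finset.coe_insert, Finset.coe_singleton, Set.mem_insert_iff, Set.mem_singleton_iff] at hmem
  rcases hmem with h | h | h | h
  exacts [Or.inl h, Or.inr h, absurd (mul_eq_left.1 h) hqN.1, absurd (mul_eq_right.1 h) hpN.1]

theorem false_of_sixty (hS : Sixty C V) (σ φ : MulAut C) (hσ : ∀ c, σ (σ c) = c)
    (hinv : ∀ c, σ (φ c) = φ⁻¹ (σ c)) (hfix : ∀ c, φ (φ c) = c → c = 1)
    (z : C) (hz : z ∈ V) (hz1 : z ≠ 1) (hσz : σ z = z) (hσV : ∀ v ∈ V, σ v = v → v = 1 ∨ v = z) :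
    False := by
  classical
  haveI hVn : V.Normal := ⟨fun v hv g => by rw [hS.cen v hv g, mul_inv_cancel_right]; exact hv⟩
  have hmemV : ∀ (α : MulAut C) {v}, v ∈ V → α v ∈ V := fun α v hv => by
    rw [hS.mem, ← map_mul, (hS.mem v).1 hv, map_one]
  have hV2 : ∀ v ∈ V, v⁻¹ = v := fun v hv => inv_eq_of_mul_eq_one_left ((hS.mem v).1 hv)
  have hQ : ∀ a b : C ⧸ V, a * b = b * a := by
    intro a b
    induction a using QuotientGroup.induction_on with
    | H x =>
      induction b using QuotientGroup.induction_on with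
      | H y =>
        rw [← QuotientGroup.mk_mul, ← QuotientGroup.mk_mul, QuotientGroup.eq]
        have := hS.comm_mem y⁻¹ x⁻¹
        rw [commutatorElement_def, inv_inv, inv_inv] at this
        convert this using 1
        group
  have hQ2 : ∀ x : C, ((x : C) : C ⧸ V) * x = 1 := fun x => by
    rw [← QuotientGroup.mk_mul, QuotientGroup.eq_one_iff]; exact hS.sq x
  have hcardQ : Nat.card (C ⧸ V) = 16 := by
    have h := V.card_eq_card_quotient_mul_card_subgroup
    rw [hS.card, hS.cardV] at h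
    omega
  let ψ : C →* C ⧸ V :=
    { toFun := fun c => (c : C ⧸ V) * ((σ c : C) : C ⧸ V)
      map_one' := by simp
      map_mul' := fun c d => by
        rw [map_mul, QuotientGroup.mk_mul, QuotientGroup.mk_mul, mul_assoc, ← mul_assoc (d : C ⧸ V),
          hQ (d : C ⧸ V) (σ c : C), mul_assoc, ← mul_assoc] }
  set W := ψ.ker with hWdef
  have hψσ : ∀ c, ψ c = ψ (σ c) := fun c => by
    show (c : C ⧸ V) * (σ c : C) = (σ c : C) * (σ (σ c) : C)
    rw [hσ, hQ]
  have hmemW : ∀ {c}, c ∈ W ↔ ((σ c : C) : C ⧸ V) = c := fun {c} => by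
    rw [MonoidHom.mem_ker]
    show (c : C ⧸ V) * (σ c : C) = 1 ↔ _
    constructor
    · intro h
      exact mul_left_cancel (h.trans (hQ2 c).symm)
    · intro h
      rw [h, hQ2]
  have hVW : V ≤ W := fun v hv => hmemW.2 (by
    rw [(QuotientGroup.eq_one_iff v).2 hv, (QuotientGroup.eq_one_iff _).2 (hmemV σ hv)])
  have hrange : ψ.range ≤ W.map (QuotientGroup.mk' V) := by
    rintro _ ⟨c, rfl⟩
    refine ⟨c * σ c, hmemW.2 ?_, rfl⟩
    rw [map_mul, hσ, QuotientGroup.mk_mul, QuotientGroup.mk_mul, hQ]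
  -- the fixed part meets its image under `φ` trivially
  have hdisj : ∀ c ∈ W, φ c ∈ W → c ∈ V := by
    intro c hc hc'
    rw [hmemW] at hc hc'
    rw [hinv, QuotientGroup.eq] at hc'
    rw [QuotientGroup.eq] at hc
    have h1 : c⁻¹ * φ (φ c) ∈ V := by
      have h := mul_mem (hmemV φ hc') (inv_mem hc)
      rw [map_mul, map_inv, MulAut.apply_inv_self] at h
      have h' : (σ c)⁻¹ * φ (φ c) * ((σ c)⁻¹ * c)⁻¹ ∈ V := h
      have h'' := hVn.conj_mem _ h' (c⁻¹ * σ c)
      convert h'' using 1
      group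
    let f : V → V := fun e => ⟨(e : C) * (φ (φ e))⁻¹, mul_mem e.2 (inv_mem (hmemV φ (hmemV φ e.2)))⟩
    have hf : Function.Injective f := by
      intro e e' h
      have h' : (e : C) * (φ (φ e))⁻¹ = (e' : C) * (φ (φ e'))⁻¹ := congrArg Subtype.val h
      have h'' : φ (φ ((e' : C)⁻¹ * e)) = (e' : C)⁻¹ * e := by
        rw [map_mul, map_mul, map_inv, map_inv]
        calc (φ (φ e'))⁻¹ * φ (φ e) = (e' : C)⁻¹ * ((e' : C) * (φ (φ e'))⁻¹) * φ (φ e) := by group
          _ = (e' : C)⁻¹ * ((e : C) * (φ (φ e))⁻¹) * φ (φ e) := by rw [h']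
          _ = (e' : C)⁻¹ * e := by group
      exact Subtype.ext (inv_mul_eq_one.1 (hfix _ h'')).symm
    obtain ⟨e, he⟩ := Finite.surjective_of_injective hf ⟨_, h1⟩
    have he' : (e : C) * (φ (φ e))⁻¹ = c⁻¹ * φ (φ c) := congrArg Subtype.val he
    have h2 : φ (φ (c * e)) = c * e := by
      rw [map_mul, map_mul]
      calc φ (φ c) * φ (φ e) = c * (c⁻¹ * φ (φ c)) * φ (φ e) := by group
        _ = c * ((e : C) * (φ (φ e))⁻¹) * φ (φ e) := by rw [he']
        _ = c * e := by group
    rw [mul_eq_one_iff_eq_inv.1 (hfix _ h2)]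
    exact inv_mem e.2
  have hWb : Nat.card W = 4 * Nat.card (W.map (QuotientGroup.mk' V)) := by
    have h := Subgroup.card_mul_index ((QuotientGroup.mk' V).domRestrict W).ker
    have hr : ((QuotientGroup.mk' V).domRestrict W).range = W.map (QuotientGroup.mk' V) := by
      ext q; exact ⟨fun ⟨x, hx⟩ => ⟨x, x.2, hx⟩, fun ⟨x, hx, hq⟩ => ⟨⟨x, hx⟩, hq⟩⟩
    rw [Subgroup.index_ker, hr, MonoidHom.ker_domRestrict, QuotientGroup.ker_mk',
      Nat.card_congr (Subgroup.subgroupOfEquivOfLe hVW).toEquiv, hS.cardV] at h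
    exact h.symm
  have hge : 4 ≤ Nat.card (W.map (QuotientGroup.mk' V)) := by
    have h := W.card_mul_index
    rw [hWdef, Subgroup.index_ker, ← hWdef, hS.card, hWb] at h
    have h' := Subgroup.card_le_of_le hrange
    nlinarith
  have hle : Nat.card (W.map (QuotientGroup.mk' V)) ≤ 4 := by
    let M := W.map (QuotientGroup.mk' V)
    have hker : V ≤ V.comap φ.toMonoidHom := fun v hv => hmemV φ hv
    let φb : C ⧸ V →* C ⧸ V := QuotientGroup.map V V φ.toMonoidHom hker
    let g : M × M → C ⧸ V := fun p => (p.1 : C ⧸ V) * φb p.2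
    have hg : Function.Injective g := by
      rintro ⟨a, b⟩ ⟨a', b'⟩ h
      have h1 : φb ((b : C ⧸ V) * (b' : C ⧸ V)⁻¹) = (a : C ⧸ V)⁻¹ * a' := by
        rw [map_mul, map_inv]
        calc φb b * (φb b')⁻¹ = (a : C ⧸ V)⁻¹ * ((a : C ⧸ V) * φb b) * (φb b')⁻¹ := by group
          _ = (a : C ⧸ V)⁻¹ * ((a' : C ⧸ V) * φb b') * (φb b')⁻¹ := by
            rw [show (a : C ⧸ V) * φb b = (a' : C ⧸ V) * φb b' from h]
          _ = (a : C ⧸ V)⁻¹ * a' := by group
      obtain ⟨w, hw, hw'⟩ := mul_mem b.2 (inv_mem b'.2)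
      obtain ⟨x, hx, hx'⟩ := mul_mem (inv_mem a.2) a'.2
      have h2 : ((φ w : C) : C ⧸ V) = (x : C) := by
        rw [← hw', ← hx'] at h1
        exact h1
      have hφw : φ w ∈ W := by
        rw [QuotientGroup.eq] at h2
        have := mul_mem hx (inv_mem (hVW h2))
        simpa [mul_assoc] using this
      have hwV := hdisj w hw hφw
      have hbb : (b : C ⧸ V) * (b' : C ⧸ V)⁻¹ = 1 := by
        rw [← hw']; exact (QuotientGroup.eq_one_iff w).2 hwV
      have hb : b = b' := Subtype.ext (mul_inv_eq_one.1 hbb)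
      subst hb
      exact Prod.ext (Subtype.ext (mul_right_cancel h)) rfl
    have := Nat.card_le_card_of_injective g hg
    rw [Nat.card_prod, hcardQ] at this
    nlinarith
  have hW16 : Nat.card W = 16 := by rw [hWb]; omega
  -- squares of elements of `W` lie in `⟨z⟩`
  set N := zpowers z with hNdef
  have hN : ∀ {x}, x ∈ N ↔ x = 1 ∨ x = z := fun {x} => by
    constructor
    · rintro ⟨i, rfl⟩
      rcases Int.even_or_odd' i with ⟨j, rfl | rfl⟩
      · left
        show z ^ (2 * j) = 1
        rw [zpow_mul, zpow_two, (hS.mem z).1 hz, one_zpow]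
      · right
        show z ^ (2 * j + 1) = z
        rw [zpow_add, zpow_mul, zpow_two, (hS.mem z).1 hz, one_zpow, one_mul, zpow_one]
    · rintro (rfl | rfl)
      exacts [one_mem _, mem_zpowers _]
  have hNV : N ≤ V := zpowers_le.2 hz
  have hWsq : ∀ c ∈ W, c * c ∈ N := by
    intro c hc
    have hd : c⁻¹ * σ c ∈ V := QuotientGroup.eq.1 (hmemW.1 hc).symm
    have hdd : σ (c⁻¹ * σ c) = c⁻¹ * σ c := by
      rw [map_mul, map_inv, hσ]
      conv_rhs => rw [← hV2 _ hd]
      group
    obtain ⟨v, hv, hcv⟩ : ∃ v ∈ V, σ (c * v) = c * v := by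
      rcases hσV _ hd hdd with h | h
      · exact ⟨1, one_mem V, by rw [mul_one, (inv_mul_eq_one.1 h).symm]⟩
      · obtain ⟨u, hu, hu1, huz⟩ : ∃ u ∈ V, u ≠ 1 ∧ u ≠ z := by
          by_contra hcon
          push Not at hcon
          have := Subgroup.card_le_of_le (show V ≤ N from fun w hw => hN.2 (or_iff_not_imp_left.2 (hcon w hw)))
          rw [hS.cardV, hNdef, Nat.card_zpowers, orderOf_eq_prime (by rw [pow_two, (hS.mem z).1 hz]) hz1] at this
          omega
        refine ⟨u, hu, ?_⟩
        have hσu : σ u ∈ V := hmemV σ hu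
        have hp : σ (u * σ u) = u * σ u := by rw [map_mul, hσ, hS.cen u hu (σ u)]
        have hσue : σ u = u * z := by
          rcases hσV _ (mul_mem hu hσu) hp with h1 | h1
          · have h2 : σ u = u := (inv_eq_of_mul_eq_one_right h1).symm.trans (hV2 u hu)
            rcases hσV u hu h2 with h3 | h3
            exacts [absurd h3 hu1, absurd h3 huz]
          · calc σ u = u⁻¹ * (u * σ u) := by group
              _ = u * z := by rw [h1, hV2 u hu]
        rw [map_mul, show σ c = c * z by rw [← h]; group, hσue, hS.cen z hz u, mul_assoc c z,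
          ← mul_assoc z z, (hS.mem z).1 hz, one_mul]
    have hsq : c * c = (c * v) * (c * v) := by
      calc c * c = c * c * (v * v) := by rw [(hS.mem v).1 hv, mul_one]
        _ = c * (c * v) * v := by group
        _ = c * (v * c) * v := by rw [hS.cen v hv c]
        _ = c * v * (c * v) := by group
    rw [hN]
    exact hσV _ (hS.sq c) (by rw [hsq, map_mul, hcv])
  have hWcomm : ∀ x ∈ W, ∀ y ∈ W, ⁅x, y⁆ ∈ N := fun x hx y hy => by
    have h := mul_mem (mul_mem (inv_mem (hWsq y hy)) (inv_mem (hWsq x hx))) (hWsq _ (mul_mem hx hy))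
    rw [hS.sq_mul] at h
    simpa [mul_assoc] using h
  haveI hNn : N.Normal := ⟨fun v hv g => by rw [hS.cen v (hNV hv) g, mul_inv_cancel_right]; exact hv⟩
  let K : Subgroup C :=
    { carrier := {c | ∀ w ∈ W, ⁅c, w⁆ ∈ N}
      one_mem' := fun w _ => by simp
      mul_mem' := fun {c d} hc hd w hw => by rw [hS.comm_mul]; exact mul_mem (hc w hw) (hd w hw)
      inv_mem' := fun {c} hc w hw => by
        have h := hS.comm_mul c⁻¹ c w
        rw [inv_mul_cancel, commutatorElement_one_left] at h
        rw [eq_inv_of_mul_eq_one_left h.symm]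
        exact inv_mem (hc w hw) }
  have hWK : W ≤ K := fun x hx w hw => hWcomm x hx w hw
  haveI := Fintype.ofFinite C
  set Q : Finset C := Finset.univ.filter (fun c => c * c ∈ N) with hQdef
  have hQcard : Q.card = 24 := by
    have he : Q = Finset.univ.filter (fun c : C => c * c = 1) ∪ Finset.univ.filter (fun c : C => c * c = z) := by
      ext c; simp [hQdef, hN]
    rw [he, Finset.card_union_of_disjoint]
    · rw [← Fintype.card_subtype, ← Fintype.card_subtype, ← Nat.card_eq_fintype_card,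
        ← Nat.card_eq_fintype_card, hS.roots z hz hz1]
      have : Nat.card {c : C // c * c = 1} = 4 :=
        (Nat.card_congr (Equiv.subtypeEquivRight fun c => (hS.mem c).symm)).trans hS.cardV
      omega
    · rw [Finset.disjoint_filter]
      intro c _ h h'
      exact hz1 (h' ▸ h)
  set Wf : Finset C := Finset.univ.filter (fun c => c ∈ W) with hWf
  have hWfc : Wf.card = 16 := by
    rw [hWf, ← Fintype.card_subtype, ← Nat.card_eq_fintype_card]; exact hW16
  have hqmul : ∀ c w, w ∈ W → (c * w * (c * w) ∈ N ↔ c * c * ⁅c, w⁆ ∈ N) := fun c w hw => by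
    rw [hS.sq_mul, mul_assoc, hS.cen _ (hS.comm_mem c w) (w * w), ← mul_assoc]
    exact mul_mem_cancel_right (hWsq w hw)
  have hQK : ∀ c ∈ K, c * c ∈ N → c ∈ W := by
    intro c hcK hc
    by_contra hcW
    have hsub : Wf ∪ Wf.image (c * ·) ⊆ Q := by
      intro x hx
      simp only [hWf, hQdef, Finset.mem_union, Finset.mem_image, Finset.mem_filter, Finset.mem_univ, true_and] at hx ⊢
      rcases hx with h | ⟨w, hw, rfl⟩
      · exact hWsq x h
      · exact (hqmul c w hw).2 (mul_mem hc (hcK w hw))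
    have h := Finset.card_le_card hsub
    rw [Finset.card_union_of_disjoint, Finset.card_image_of_injective _ (mul_right_injective c), hWfc, hQcard] at h
    · omega
    · rw [Finset.disjoint_left]
      intro x hx hx'
      simp only [hWf, Finset.mem_image, Finset.mem_filter, Finset.mem_univ, true_and] at hx hx'
      obtain ⟨w, hw, rfl⟩ := hx'
      exact hcW ((mul_mem_cancel_right hw).1 hx)
  set O : Finset C := Finset.univ.filter (fun c => c ∉ K) with hO
  have hOQ : (O.filter (· ∈ Q)).card = 8 := by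
    have h1 : Q = Wf ∪ O.filter (· ∈ Q) := by
      ext c
      simp only [hQdef, hWf, hO, Finset.mem_union, Finset.mem_filter, Finset.mem_univ, true_and]
      constructor
      · intro h
        by_cases hK : c ∈ K
        exacts [Or.inl (hQK c hK h), Or.inr ⟨hK, h⟩]
      · rintro (h | h)
        exacts [hWsq c h, h.2]
    have h2 : Disjoint Wf (O.filter (· ∈ Q)) := by
      rw [Finset.disjoint_left]
      intro x hx hx'
      simp only [hWf, hO, Finset.mem_filter, Finset.mem_univ, true_and] at hx hx'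
      exact hx'.1 (hWK hx)
    have := Finset.card_union_of_disjoint h2
    rw [← h1, hQcard, hWfc] at this
    omega
  -- double counting
  have hrow : ∀ c ∈ O, (Wf.filter (fun w => c * w ∈ Q)).card = 8 := by
    intro c hc
    simp only [hO, Finset.mem_filter, Finset.mem_univ, true_and] at hc
    obtain ⟨w₀, hw₀, hw₀N⟩ : ∃ w ∈ W, ⁅c, w⁆ ∉ N := by
      by_contra hcon; push Not at hcon; exact hc hcon
    have hflip : ∀ w ∈ W, (c * (w * w₀) ∈ Q ↔ ¬ c * w ∈ Q) := by
      intro w hw
      simp only [hQdef, Finset.mem_filter, Finset.mem_univ, true_and, hqmul c _ (mul_mem hw hw₀),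
        hqmul c _ hw]
      have hcm : ⁅c, w * w₀⁆ = ⁅c, w⁆ * ⁅c, w₀⁆ := by
        rw [commutatorElement_def, commutatorElement_def, commutatorElement_def]
        have hcc := hS.cen _ (hS.comm_mem c w₀) w⁻¹
        rw [commutatorElement_def] at hcc
        calc c * (w * w₀) * c⁻¹ * (w * w₀)⁻¹
            = c * w * c⁻¹ * ((c * w₀ * c⁻¹ * w₀⁻¹) * w⁻¹) := by group
          _ = c * w * c⁻¹ * (w⁻¹ * (c * w₀ * c⁻¹ * w₀⁻¹)) := by rw [hcc]
          _ = _ := by group
      rw [hcm, ← mul_assoc]
      set p := c * c * ⁅c, w⁆ with hp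
      have hpV : p ∈ V := mul_mem (hS.sq c) (hS.comm_mem c w)
      have hqV : ⁅c, w₀⁆ ∈ V := hS.comm_mem c w₀
      constructor
      · intro h h'
        exact hw₀N ((mul_mem_cancel_left h').1 h)
      · intro h
        exact mul_mem_of_index_two hV2 hN hS.cardV hz hz1 hpV hqV h hw₀N
    have himg : (Wf.filter (fun w => c * w ∈ Q)).image (· * w₀) = Wf.filter (fun w => ¬ c * w ∈ Q) := by
      ext x
      simp only [hWf, Finset.mem_image, Finset.mem_filter, Finset.mem_univ, true_and]
      constructor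
      · rintro ⟨w, ⟨hw, hq⟩, rfl⟩
        exact ⟨mul_mem hw hw₀, fun h => (hflip w hw).1 h hq⟩
      · rintro ⟨hx, hq⟩
        refine ⟨x * w₀⁻¹, ⟨mul_mem hx (inv_mem hw₀), ?_⟩, inv_mul_cancel_right x w₀⟩
        by_contra h
        exact hq (by simpa using (hflip _ (mul_mem hx (inv_mem hw₀))).2 h)
    have h1 := Finset.card_filter_add_card_filter_not (s := Wf) (fun w => c * w ∈ Q)
    rw [← himg, Finset.card_image_of_injective _ (mul_left_injective w₀), hWfc] at h1
    omega
  have hcol : ∀ w ∈ Wf, (O.filter (fun c => c * w ∈ Q)).card = 8 := by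
    intro w hw
    simp only [hWf, Finset.mem_filter, Finset.mem_univ, true_and] at hw
    rw [← hOQ]
    refine Finset.card_bij (fun c _ => c * w) ?_ ?_ ?_
    · intro c hc
      simp only [hO, Finset.mem_filter, Finset.mem_univ, true_and] at hc ⊢
      exact ⟨fun h => hc.1 ((mul_mem_cancel_right (hWK hw)).1 h), hc.2⟩
    · intro a _ b _ h
      exact mul_right_cancel h
    · intro b hb
      simp only [hO, Finset.mem_filter, Finset.mem_univ, true_and] at hb
      exact ⟨b * w⁻¹, by
        simp only [hO, Finset.mem_filter, Finset.mem_univ, true_and, inv_mul_cancel_right]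
        exact ⟨fun h => hb.1 ((mul_mem_cancel_right (inv_mem (hWK hw))).1 h), hb.2⟩, inv_mul_cancel_right b w⟩
  have hsum := Finset.sum_card_bipartiteAbove_eq_sum_card_bipartiteBelow (s := O) (t := Wf)
    (fun c w => c * w ∈ Q)
  simp only [Finset.bipartiteAbove, Finset.bipartiteBelow] at hsum
  rw [Finset.sum_congr rfl hrow, Finset.sum_congr rfl hcol, Finset.sum_const, Finset.sum_const, hWfc,
    smul_eq_mul, smul_eq_mul] at hsum
  have hKc : Nat.card K + O.card = 64 := by
    rw [← hS.card, Nat.card_eq_fintype_card, Nat.card_eq_fintype_card, Fintype.card_subtype, hO]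
    exact Finset.card_filter_add_card_filter_not (s := Finset.univ) (fun c => c ∈ K)
  have hdvd := K.card_subgroup_dvd_card
  rw [hS.card, show Nat.card K = 48 by omega] at hdvd
  norm_num at hdvd

end Cfsg.Agent.AlperinRankTwo
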