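import Mathlib.GroupTheory.Subgroup.Center
import Mathlib.GroupTheory.OrderOfElement
import Mathlib.Tactic.Group
import Mathlib.Algebra.Group.Subgroup.Finite

/-!
# Involutions in a coset of an inverting element (helper91)

`exists_involution_twist` : if `s` normalizes `C`, `s * s ∈ C`, and an automorphism `φ` of `C` without nontrivial
fixed points is inverted by conjugation by `s`, then the coset `Z(C) s` contains an involution.
-/

set_option autoImplicit false

namespace Cfsg.Agent.AlperinRankTwo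

variable {T : Type*} [Group T] [Finite T]

theorem exists_involution_twist (C : Subgroup T) [C.Normal] {s : T} (hs : s * s ∈ C) (φ : MulAut C)
    (hfix : ∀ c, φ c = c → c = 1)
    (hinv : ∀ c, MulAut.conjNormal s (φ c) = φ⁻¹ (MulAut.conjNormal s c)) :
    ∃ y : C, (∀ c, y * c = c * y) ∧ ((y : T) * s) * ((y : T) * s) = 1 := by
  set σ : MulAut C := MulAut.conjNormal s with hσdef
  set a : C := ⟨s * s, hs⟩
  have hσσ : ∀ c, σ (σ c) = a * c * a⁻¹ := fun c => by
    apply Subtype.ext
    show (MulAut.conjNormal s (MulAut.conjNormal s c) : T) = ((a * c * a⁻¹ : C) : T)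
    rw [MulAut.conjNormal_apply, MulAut.conjNormal_apply, Subgroup.coe_mul, Subgroup.coe_mul, Subgroup.coe_inv]
    simp only [a]
    group
  have hσa : σ a = a := by
    apply Subtype.ext
    show (MulAut.conjNormal s a : T) = (a : T)
    rw [MulAut.conjNormal_apply]
    simp only [a]
    group
  have hσφ' : ∀ c, σ (φ⁻¹ c) = φ (σ c) := fun c => by
    have h := hinv (φ⁻¹ c)
    rw [MulAut.apply_inv_self] at h
    have h' := congrArg φ h
    rw [MulAut.apply_inv_self] at h'
    exact h'.symm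
  have hd : a⁻¹ * φ a ∈ Subgroup.center C := Subgroup.mem_center_iff.2 fun x => by
    have h : φ (σ (σ (φ⁻¹ x))) = σ (σ x) := by
      rw [hσφ' x, hinv (σ x), MulAut.apply_inv_self]
    rw [hσσ, hσσ, map_mul, map_mul, map_inv, MulAut.apply_inv_self] at h
    calc x * (a⁻¹ * φ a) = a⁻¹ * (a * x * a⁻¹) * φ a := by group
      _ = a⁻¹ * (φ a * x * (φ a)⁻¹) * φ a := by rw [h]
      _ = a⁻¹ * φ a * x := by group
  have hcZ : ∀ (α : MulAut C) {e : C}, e ∈ Subgroup.center C → α e ∈ Subgroup.center C := fun α e he =>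
    Subgroup.mem_center_iff.2 fun x => by
      rw [← MulAut.apply_inv_self C α x, ← map_mul, ← map_mul, Subgroup.mem_center_iff.1 he]
  let f : Subgroup.center C → Subgroup.center C := fun e =>
    ⟨(e : C) * (φ e)⁻¹, mul_mem e.2 (inv_mem (hcZ φ e.2))⟩
  have hf : Function.Injective f := by
    intro e e' h
    have h' : (e : C) * (φ e)⁻¹ = (e' : C) * (φ e')⁻¹ := congrArg Subtype.val h
    apply Subtype.ext
    have h'' : φ ((e' : C)⁻¹ * e) = (e' : C)⁻¹ * e := by
      rw [map_mul, map_inv]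
      have hc := Subgroup.mem_center_iff.1 (inv_mem (hcZ φ e'.2)) (φ e)
      calc (φ e')⁻¹ * φ e = (e' : C)⁻¹ * ((e' : C) * (φ e')⁻¹) * φ e := by group
        _ = (e' : C)⁻¹ * ((e : C) * (φ e)⁻¹) * φ e := by rw [h']
        _ = (e' : C)⁻¹ * e := by group
    exact (inv_mul_eq_one.1 (hfix _ h'')).symm
  have hsur := Finite.surjective_of_injective hf
  obtain ⟨e, he⟩ := hsur ⟨_, hd⟩
  have he' : (e : C) * (φ e)⁻¹ = a⁻¹ * φ a := congrArg Subtype.val he
  have haZ : a ∈ Subgroup.center C := by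
    have h1 : φ (a * e) = a * e := by
      rw [map_mul]
      calc φ a * φ e = a * (a⁻¹ * φ a) * φ e := by group
        _ = a * ((e : C) * (φ e)⁻¹) * φ e := by rw [he']
        _ = a * e := by group
    rw [mul_eq_one_iff_eq_inv.1 (hfix _ h1)]
    exact inv_mem e.2
  obtain ⟨b, hb⟩ := hsur ⟨a⁻¹, inv_mem haZ⟩
  have hb' : (b : C) * (φ b)⁻¹ = a⁻¹ := congrArg Subtype.val hb
  have hφb : φ b = a * b := by
    calc φ b = a * (a⁻¹ * φ b) := by group
      _ = a * ((b : C) * (φ b)⁻¹ * φ b) := by rw [hb']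
      _ = a * b := by group
  have hφib : φ⁻¹ (b : C) = (φ⁻¹ a)⁻¹ * b := by
    have h := congrArg (fun x => φ⁻¹ x) hφb
    simp only [map_mul, MulAut.inv_apply_self] at h
    exact eq_inv_mul_of_mul_eq h.symm
  have hw : σ b * φ b = 1 := hfix _ (by
    rw [map_mul, ← hσφ', hφib, map_mul, map_inv, hσφ', hσa]
    rw [show φ (φ (b : C)) = φ a * φ b by rw [← map_mul, ← hφb]]
    have hc := Subgroup.mem_center_iff.1 (hcZ σ b.2) (φ a)⁻¹
    calc (φ a)⁻¹ * σ b * (φ a * φ b) = σ b * (φ a)⁻¹ * (φ a * φ b) := by rw [hc]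
      _ = σ b * φ b := by group)
  refine ⟨b, fun c => (Subgroup.mem_center_iff.1 b.2 c).symm, ?_⟩
  have h1 : (b : C) * σ b * a = 1 := by
    rw [mul_eq_one_iff_eq_inv.1 hw, hφb]
    have hab := Subgroup.mem_center_iff.1 b.2 a
    rw [mul_inv_rev, ← mul_assoc, mul_inv_cancel, one_mul, inv_mul_cancel]
  have h2 := congrArg Subtype.val h1
  simp only [Subgroup.coe_mul, Subgroup.coe_one, hσdef, MulAut.conjNormal_apply] at h2
  calc ((b : C) : T) * s * (((b : C) : T) * s)
      = ((b : C) : T) * (s * ((b : C) : T) * s⁻¹) * (s * s) := by group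
    _ = 1 := h2

end Cfsg.Agent.AlperinRankTwo
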