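import Cfsg.Agent.Lib.AlperinRankTwo.Basic
import Cfsg.Agent.Lib.AlperinRankTwo.Twist
import Cfsg.Agent.Lib.AlperinRankTwo.SixtyFalse
import Cfsg.Agent.Lib.AlperinRankTwo.Perm3
import Cfsg.Agent.Lib.Fixity.TwoGroup
import Cfsg.Agent.Lib.PGroup.CyclicNormalAbelian
import Cfsg.Agent.Lib.Unitary.SylowThree
import Cfsg.Agent.S1237

/-!
# Alperin's 2-groups of 2-rank two (helper91)

A finite 2-group `T` of 2-rank two carrying fusion data (`Fusion`) in which no central involution is isolated is
dihedral, quasidihedral, wreathed, homocyclic of rank two, or a Sylow 2-subgroup of `PSU 3 F 4`.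
-/

set_option autoImplicit false

namespace Cfsg.Agent.AlperinRankTwo

open Subgroup

/-- Abstract fusion data on a 2-group `T`: enough to move involutions around. -/
structure Fusion (T : Type*) [Group T] [Finite T] where
  Rel : (P : Subgroup T) → (P →* T) → Prop
  injective : ∀ {P : Subgroup T} {ψ : P →* T}, Rel P ψ → Function.Injective ψ
  nonisolated : ∀ z : T, z ≠ 1 → z * z = 1 → (∀ x, x * z = z * x) →
    ∃ (x : T) (ψ : centralizer ({x} : Set T) →* T), x ≠ z ∧ Rel _ ψ ∧
      ψ ⟨x, mem_centralizer_singleton_iff.2 rfl⟩ = z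
  extend_inv : ∀ {P : Subgroup T} {ψ : P →* T}, Rel P ψ → ∀ w : P, (∀ x, x * (w : T) = (w : T) * x) →
    ∃ χ : centralizer ({ψ w} : Set T) →* T, Rel _ χ ∧ χ ⟨ψ w, mem_centralizer_singleton_iff.2 rfl⟩ = w
  auto : ∀ (C : Subgroup T) [C.Normal], ∃ A : Subgroup (MulAut C),
    (MulAut.conjNormal (H := C)).range ≤ A ∧ Odd ((MulAut.conjNormal (H := C)).range.subgroupOf A).index ∧
      ∀ {P : Subgroup T} {ψ : P →* T}, Rel P ψ → ∀ (hCP : C ≤ P) (α : MulAut C),
        (∀ c : C, (α c : T) = ψ ⟨c, hCP c.2⟩) → α ∈ A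

variable {T : Type*} [Group T] [Finite T]

theorem small_of_squares (d : FourData T) {I : Subgroup T} {z x : T} (hxC : x ∉ d.C)
    (hcomm : ∀ i ∈ I, Commute i x) (hidx : d.C.index = 2) (hx : x * x = 1)
    (hfix : ∀ v ∈ d.U, Commute v x → v = 1 ∨ v = z)
    (hsq : ∀ i ∈ d.C, Commute i x → i * i = 1) : Nat.card I ≤ 4 := by
  classical
  have hC : ∀ i ∈ d.C, Commute i x → i = 1 ∨ i = z := fun i hi hc =>
    hfix i (d.involution_mem_of_C hi (hsq i hi hc)) hc
  have hsub : (I : Set T) ⊆ (({1, z, x, z * x} : Finset T) : Set T) := fun i hi => by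
    simp only [Finset.coe_insert, Finset.coe_singleton, Set.mem_insert_iff, Set.mem_singleton_iff]
    by_cases h : i ∈ d.C
    · rcases hC i h (hcomm i hi) with h' | h'
      exacts [Or.inl h', Or.inr (Or.inl h')]
    · have hmem : i * x ∈ d.C := by
        rw [Subgroup.mul_mem_iff_of_index_two hidx]
        exact ⟨fun hh => absurd hh h, fun hh => absurd hh hxC⟩
      rcases hC _ hmem ((hcomm i hi).mul_left (Commute.refl x)) with h' | h'
      · refine Or.inr (Or.inr (Or.inl ?_))
        calc i = i * x * x := by rw [mul_assoc, hx, mul_one]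
          _ = x := by rw [h', one_mul]
      · refine Or.inr (Or.inr (Or.inr ?_))
        calc i = i * x * x := by rw [mul_assoc, hx, mul_one]
          _ = z * x := by rw [h']
  have h := Set.ncard_le_ncard hsub (Set.toFinite _)
  rw [Set.ncard_coe_finset, ← Nat.card_coe_set_eq, SetLike.coe_sort_coe] at h
  exact h.trans Finset.card_le_four

theorem exists_sq_power (hT : IsPGroup 2 T) {r : T} (hr : r * r ≠ 1) :
    ∃ k : ℕ, (r ^ k * r ^ k) * (r ^ k * r ^ k) = 1 ∧ r ^ k * r ^ k ≠ 1 := by
  obtain ⟨m, hm⟩ := hT r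
  obtain ⟨i, -, hio⟩ := (Nat.dvd_prime_pow Nat.prime_two).1 (orderOf_dvd_of_pow_eq_one hm)
  obtain ⟨l, rfl⟩ : ∃ l, i = l + 2 := by
    refine ⟨i - 2, ?_⟩
    rcases i with _ | _ | i
    · have h0 : r = 1 := orderOf_eq_one_iff.1 (by rw [hio, pow_zero])
      exact absurd (by rw [h0, mul_one]) hr
    · exact absurd (by rw [← pow_two, show (2 : ℕ) = orderOf r by rw [hio]; rfl, pow_orderOf_eq_one]) hr
    · rfl
  refine ⟨2 ^ l, by rw [← pow_add, ← pow_add, show 2 ^ l + 2 ^ l + (2 ^ l + 2 ^ l) = 2 ^ (l + 2) by ring, ← hio,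
    pow_orderOf_eq_one], fun h => ?_⟩
  rw [← pow_add] at h
  have := Nat.le_of_dvd (by positivity) (orderOf_dvd_of_pow_eq_one h)
  rw [hio, show 2 ^ (l + 2) = 2 ^ l * 4 by ring] at this
  have : 0 < 2 ^ l := by positivity
  omega

/-- Involutions of a homocyclic group are `2 ^ (n-1)`-th powers. -/
theorem exists_root_of_homocyclic {A : Type*} [Group A] (k : ℕ)
    (e : A ≃* Multiplicative (ZMod (2 ^ (k + 1)) × ZMod (2 ^ (k + 1)))) {v : A} (hv : v * v = 1) :
    ∃ x : A, x ^ 2 ^ k = v := by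
  have h : (e v).toAdd + (e v).toAdd = 0 := by rw [← toAdd_mul, ← map_mul, hv, map_one, toAdd_one]
  have key : ∀ a : ZMod (2 ^ (k + 1)), a + a = 0 → ∃ b : ZMod (2 ^ (k + 1)), 2 ^ k • b = a := by
    intro a ha
    rcases Homocyclic.zmod_two_torsion k a ha with h | h
    · exact ⟨0, by rw [smul_zero, h]⟩
    · exact ⟨1, by rw [h, nsmul_one]⟩
  obtain ⟨b₁, hb₁⟩ := key _ (congrArg Prod.fst h)
  obtain ⟨b₂, hb₂⟩ := key _ (congrArg Prod.snd h)
  refine ⟨e.symm (Multiplicative.ofAdd (b₁, b₂)), e.injective ?_⟩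
  rw [map_pow, e.apply_symm_apply, ← ofAdd_nsmul, Prod.smul_mk, hb₁, hb₂]
  rfl

theorem eq_one_or_of_mem_zpowers {x : T} {k : ℕ} (hx : orderOf x = 2 ^ (k + 1)) {v : T}
    (hv : v ∈ zpowers x) (h2 : v * v = 1) : v = 1 ∨ v = x ^ 2 ^ k := by
  obtain ⟨j, rfl⟩ := mem_powers_iff_mem_zpowers.2 hv
  have h : 2 ^ (k + 1) ∣ j + j := by rw [← hx]; exact orderOf_dvd_of_pow_eq_one (by rw [pow_add]; exact h2)
  rw [← two_mul, pow_succ'] at h
  obtain ⟨c, rfl⟩ := (Nat.mul_dvd_mul_iff_left (by norm_num : 0 < 2)).1 h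
  have hu : (x ^ 2 ^ k) * (x ^ 2 ^ k) = 1 := by rw [← pow_add, ← two_mul, ← pow_succ', ← hx, pow_orderOf_eq_one]
  show x ^ (2 ^ k * c) = 1 ∨ x ^ (2 ^ k * c) = x ^ 2 ^ k
  rw [pow_mul]
  rcases Nat.even_or_odd' c with ⟨e, rfl | rfl⟩
  · exact Or.inl (by rw [pow_mul, pow_two, hu, one_pow])
  · exact Or.inr (by rw [pow_succ, pow_mul, pow_two, hu, one_pow, one_mul])

theorem nonempty_dihedral_two {G : Type*} [Group G] [Finite G] (h4 : Nat.card G = 4) (h2 : ∀ g : G, g * g = 1) :
    Nonempty (G ≃* DihedralGroup 2) := by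
  haveI : Nontrivial G := Finite.one_lt_card_iff_nontrivial.1 (by omega)
  haveI : IsKleinFour G := ⟨h4, by
    refine Nat.Prime.eq_one_or_self_of_dvd Nat.prime_two _ (Monoid.exponent_dvd_of_forall_pow_eq_one fun g => by
      rw [pow_two]; exact h2 g) |>.resolve_left fun h => ?_
    obtain ⟨g, hg⟩ := exists_ne (1 : G)
    exact hg (by simpa using (Monoid.exp_eq_one_iff.1 h).elim g 1)⟩
  exact IsKleinFour.nonempty_mulEquiv

theorem klein_sq : ∀ y : Multiplicative (ZMod (2 ^ 1) × ZMod (2 ^ 1)), y * y = 1 := by decide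

variable {F : Type*} [Field F] [Fintype F]

theorem sixty_of_equiv (hF : Fintype.card F = 16) (P : Sylow 2 (Cfsg.PSU 3 F 4)) {C : Type*} [Group C] [Finite C]
    (e : C ≃* (P : Subgroup (Cfsg.PSU 3 F 4))) :
    ∃ V : Subgroup C, SuzukiTwo.SixtyFour.Sixty C V := by
  have hF' : Fintype.card F = 4 ^ 2 := by rw [hF]; rfl
  have hF2 : (2 : F) = 0 := by
    obtain ⟨p, hp⟩ := CharP.exists F
    haveI := hp
    obtain ⟨n, hpn, hn⟩ := FiniteField.card F p
    have hdvd : p ∣ 2 ^ 4 := by
      rw [show 2 ^ 4 = Fintype.card F by rw [hF]; rfl, hn]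
      exact dvd_pow_self p n.ne_zero
    have := (Nat.prime_dvd_prime_iff_eq hpn Nat.prime_two).mp (hpn.dvd_of_dvd_pow hdvd)
    subst this
    exact_mod_cast CharP.cast_eq_zero F 2
  obtain ⟨eP⟩ := Cfsg.Agent.Unitary.exists_equiv (n := 2) (by norm_num) (by norm_num) hF' hF2 P
  let g : C ≃* Cfsg.Agent.Unitary.sylThree hF' hF2 := e.trans eP.symm
  have hmem : ∀ z, z ∈ (center (Cfsg.Agent.Unitary.sylThree hF' hF2)).comap g.toMonoidHom ↔ z * z = 1 := fun z => by
    rw [mem_comap, MulEquiv.coe_toMonoidHom, (Cfsg.Agent.Unitary.mem_center_iff _),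
      ← Cfsg.Agent.Unitary.sq_eq_one_iff, ← map_mul, map_eq_one_iff g g.injective]
  refine ⟨_, ⟨by rw [Nat.card_congr g.toEquiv, Cfsg.Agent.Unitary.card_sylThree]; norm_num, hmem,
    fun v hv x => g.injective (by rw [map_mul, map_mul]; exact mem_center_iff.1 hv (g x)), ?_, fun x => ?_,
    fun v hv hv1 => ?_⟩⟩
  · exact (Nat.card_congr (g.toEquiv.subtypeEquiv (q := fun y => y ∈ center (Cfsg.Agent.Unitary.sylThree hF' hF2))
      fun z => Iff.rfl)).trans Cfsg.Agent.Unitary.card_center
  · rw [mem_comap, MulEquiv.coe_toMonoidHom, map_mul]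
    exact (Cfsg.Agent.Unitary.mem_center_iff _).mpr (Cfsg.Agent.Unitary.coord_sq (g x)).1
  · rw [Nat.card_congr (g.toEquiv.subtypeEquiv (q := fun y => y * y = g v) fun x => by
      show x * x = v ↔ g x * g x = g v
      rw [← map_mul, g.injective.eq_iff])]
    exact Cfsg.Agent.Unitary.card_sqrt hv (fun h => hv1 (g.injective (h.trans (map_one g).symm)))

/-- The conclusion of Alperin's theorem. -/
def Conclusion (T : Type*) [Group T] (F : Type*) [Field F] [Fintype F] (P : Sylow 2 (Cfsg.PSU 3 F 4)) : Prop :=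
  (∃ m : ℕ, 2 ≤ m ∧ Nonempty (T ≃* DihedralGroup m)) ∨ Cfsg.IsQuasiDihedral T ∨ Cfsg.IsWreathed T ∨
    (∃ n : ℕ, 2 ≤ n ∧ Nonempty (T ≃* Multiplicative (ZMod (2 ^ n) × ZMod (2 ^ n)))) ∨
    Nonempty (T ≃* (P : Subgroup (Cfsg.PSU 3 F 4)))

theorem dihedral_two_le (hnc : ¬ IsCyclic T) {n : ℕ} (e : T ≃* DihedralGroup n) : 2 ≤ n := by
  by_contra hlt
  obtain rfl | rfl : n = 0 ∨ n = 1 := by omega
  · have h1 : Finite (DihedralGroup 0) := Finite.of_equiv T e.toEquiv
    have : Infinite (DihedralGroup 0) := Infinite.of_injective (fun i : ZMod 0 => DihedralGroup.r i)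
      (fun a b h => DihedralGroup.r.inj h)
    exact this.not_finite h1
  · exact hnc (e.isCyclic.2 (isCyclic_of_prime_card (p := 2) (by
      rw [Nat.card_eq_fintype_card, DihedralGroup.card])))

theorem not_quaternion (h1 : ¬ Cfsg.PRankLE 2 1 T) {n : ℕ} (e : T ≃* QuaternionGroup n) : False := by
  rcases eq_or_ne n 0 with rfl | hn
  · have h1 : Finite (QuaternionGroup 0) := Finite.of_equiv T e.toEquiv
    haveI : Infinite (ZMod (2 * 0)) := (inferInstance : Infinite ℤ)
    have : Infinite (QuaternionGroup 0) := Infinite.of_injective (fun i : ZMod (2 * 0) => QuaternionGroup.a i)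
      (fun a b h => QuaternionGroup.a.inj h)
    exact this.not_finite h1
  haveI : NeZero n := ⟨hn⟩
  obtain ⟨k, hk⟩ : ∃ k, n = k + 1 := ⟨n - 1, by omega⟩
  refine h1 fun A _ hA => ?_
  classical
  have hsub : (A : Set T) ⊆ (({1, e.symm (QuaternionGroup.a n)} : Finset T) : Set T) := fun x hx => by
    simp only [Finset.coe_insert, Finset.coe_singleton, Set.mem_insert_iff, Set.mem_singleton_iff]
    have h2 := congrArg e (hA x hx)
    rw [map_pow, map_one] at h2
    rcases he : e x with i | i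
    · rw [he, pow_two, QuaternionGroup.a_mul_a, ← QuaternionGroup.a_zero] at h2
      have hi := QuaternionGroup.a.inj h2
      have : i = 0 ∨ i = (n : ZMod (2 * n)) := by
        have hv : ((i.val + i.val : ℕ) : ZMod (2 * n)) = 0 := by push_cast [ZMod.natCast_zmod_val]; exact hi
        rw [ZMod.natCast_eq_zero_iff] at hv
        obtain ⟨c, hc⟩ := hv
        have hlt : i.val < 2 * n := ZMod.val_lt i
        rcases Nat.lt_or_ge c 2 with h | h
        · interval_cases c
          · exact Or.inl ((ZMod.val_eq_zero i).mp (by omega))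
          · right
            conv_lhs => rw [← ZMod.natCast_zmod_val i]
            congr 1
            omega
        · exfalso
          have := Nat.mul_le_mul_left (2 * n) h
          omega
      rcases this with rfl | rfl
      · left; exact e.injective (by rw [he, map_one]; rfl)
      · right; rw [← he, e.symm_apply_apply]
    · rw [he] at h2
      have h4 := orderOf_dvd_of_pow_eq_one h2
      rw [QuaternionGroup.orderOf_xa] at h4
      norm_num at h4
  have h := Set.ncard_le_ncard hsub (Set.toFinite _)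
  rw [Set.ncard_coe_finset, ← Nat.card_coe_set_eq, SetLike.coe_sort_coe] at h
  simpa using h.trans Finset.card_le_two

namespace Fusion

variable (f : Fusion T)

theorem map_involution {P : Subgroup T} {ψ : P →* T} (h : f.Rel P ψ) {x : P} (hx : (ψ x) * ψ x = 1) :
    (x : T) * x = 1 := by
  rw [← map_mul, map_eq_one_iff ψ (f.injective h)] at hx
  exact congrArg Subtype.val hx

end Fusion

theorem main (hT : IsPGroup 2 T) (h2 : Cfsg.PRankLE 2 2 T) (h1 : ¬ Cfsg.PRankLE 2 1 T) (f : Fusion T)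
    (hF : Fintype.card F = 16) (P : Sylow 2 (Cfsg.PSU 3 F 4)) : Conclusion T F P := by
  classical
  haveI : Fact (Nat.Prime 2) := ⟨Nat.prime_two⟩
  have hnc : ¬ IsCyclic T := by
    intro hc
    refine h1 fun A _ hA => ?_
    obtain ⟨g, hg⟩ := IsCyclic.exists_generator (α := A)
    have hcard : Nat.card A = orderOf g := (orderOf_eq_card_of_forall_mem_zpowers hg).symm
    rw [hcard, pow_one]
    exact Nat.le_of_dvd (by norm_num) (orderOf_dvd_of_pow_eq_one (Subtype.ext (hA g g.2)))
  rcases PGroup.exists_normal_elementary_sq_or_cases hT hnc with ⟨U, hUn, hUe, hU4⟩ | ⟨-, h⟩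
  swap
  · rcases h with ⟨n, ⟨e⟩⟩ | ⟨n, ⟨e⟩⟩ | h
    · exact (not_quaternion h1 e).elim
    · exact Or.inl ⟨n, dihedral_two_le hnc e, ⟨e⟩⟩
    · exact Or.inr (Or.inl h)
  let d : FourData T := ⟨U, hT, h2, hUn, hUe, by rw [hU4]; norm_num⟩
  haveI := d.C_normal
  obtain ⟨z, hzU, hz1, hzc⟩ := d.exists_central
  obtain ⟨u, huU, hu1, hzu⟩ := four_exists_other d.card z
  obtain ⟨hwU, hw1, hwz, hwu, hcases⟩ := four_cases d.elem d.card hzU huU hz1 hu1 hzu
  -- the involutions of `C`
  have hinv : ∀ v : d.C, (v * v = 1 ∧ v ≠ 1) ↔ ((v : T) = z ∨ (v : T) = u ∨ (v : T) = z * u) := by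
    intro v
    constructor
    · rintro ⟨hv, hv1⟩
      rcases hcases _ (d.involution_mem_of_C v.2 (congrArg Subtype.val hv)) with h | h
      · exact absurd (Subtype.ext h) hv1
      · exact h
    · intro h
      have hvU : (v : T) ∈ d.U := by rcases h with h | h | h <;> rw [h] <;> assumption
      refine ⟨Subtype.ext (d.sq_one hvU), fun h' => ?_⟩
      have h'' : (v : T) = 1 := congrArg Subtype.val h'
      rw [h''] at h
      rcases h with h | h | h
      exacts [hz1 h.symm, hu1 h.symm, hw1 h.symm]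
  let zI : Invols d.C := ⟨⟨z, d.U_le_C hzU⟩, (hinv _).2 (Or.inl rfl)⟩
  let uI : Invols d.C := ⟨⟨u, d.U_le_C huU⟩, (hinv _).2 (Or.inr (Or.inl rfl))⟩
  let wI : Invols d.C := ⟨⟨z * u, d.U_le_C hwU⟩, (hinv _).2 (Or.inr (Or.inr rfl))⟩
  have hI : Nat.card (Invols d.C) = 3 := by
    haveI := Fintype.ofFinite (Invols d.C)
    rw [Nat.card_eq_fintype_card, ← Finset.card_univ]
    refine Finset.card_eq_three.2 ⟨zI, uI, wI, ?_, ?_, ?_, ?_⟩
    · exact fun h => hzu (congrArg (fun v : Invols d.C => ((v.1 : d.C) : T)) h)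
    · exact fun h => hwz (congrArg (fun v : Invols d.C => ((v.1 : d.C) : T)) h).symm
    · exact fun h => hwu (congrArg (fun v : Invols d.C => ((v.1 : d.C) : T)) h).symm
    · ext v
      simp only [Finset.mem_univ, Finset.mem_insert, Finset.mem_singleton, true_iff]
      rcases (hinv v.1).1 v.2 with h | h | h
      exacts [Or.inl (Subtype.ext (Subtype.ext h)), Or.inr (Or.inl (Subtype.ext (Subtype.ext h))),
        Or.inr (Or.inr (Subtype.ext (Subtype.ext h)))]
  have hC2 : IsPGroup 2 d.C := hT.to_subgroup _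
  have hCrank : Cfsg.PRankLE 2 2 d.C := fun A hA hA2 => by
    rw [← Subgroup.card_map_of_injective d.C.subtype_injective]
    refine h2 _ ⟨⟨?_⟩⟩ ?_
    · rintro ⟨_, a, ha, rfl⟩ ⟨_, b, hb, rfl⟩
      exact Subtype.ext (congrArg (fun x : A => ((x : d.C) : T)) (mul_comm' (⟨a, ha⟩ : A) ⟨b, hb⟩))
    · rintro _ ⟨a, ha, rfl⟩
      rw [← map_pow, hA2 a ha, map_one]
  have hC1 : ¬ Cfsg.PRankLE 2 1 d.C := fun h => by
    have h' := h (d.U.subgroupOf d.C) ⟨⟨fun a b => Subtype.ext (Subtype.ext (d.comm a.2 b.2))⟩⟩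
      (fun a ha => Subtype.ext (d.elem.2 _ ha))
    rw [Nat.card_congr (Subgroup.subgroupOfEquivOfLe d.U_le_C).toEquiv, d.card] at h'
    norm_num at h'
  obtain ⟨A, hRA, hodd, hauto⟩ := f.auto d.C
  set R := (MulAut.conjNormal (H := d.C)).range
  have hR2 : IsPGroup 2 R := hT.of_surjective (MulAut.conjNormal (H := d.C)).rangeRestrict
    (MulAut.conjNormal (H := d.C)).rangeRestrict_surjective
  have hRz : ∀ ρ ∈ R, permHom d.C ρ zI = zI := by
    rintro _ ⟨s, rfl⟩
    apply Subtype.ext
    apply Subtype.ext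
    show s * z * s⁻¹ = z
    rw [hzc, mul_inv_cancel_right]
  have hhom : ∀ (φ : MulAut d.C), (∀ v w : d.C, v * v = 1 → v ≠ 1 → w * w = 1 → w ≠ 1 → ∃ k : ℕ, (φ ^ k) v = w) →
      (∃ n : ℕ, 1 ≤ n ∧ Nonempty (d.C ≃* Multiplicative (ZMod (2 ^ n) × ZMod (2 ^ n)))) ∨
        Nonempty (d.C ≃* (P : Subgroup (Cfsg.PSU 3 F 4))) := fun φ ht =>
    S1237.result hC2 hCrank hC1 φ (fun v w hv hw => ht v w (by rw [← pow_two, ← hv, pow_orderOf_eq_one])
      (fun h => by rw [h, orderOf_one] at hv; norm_num at hv) (by rw [← pow_two, ← hw, pow_orderOf_eq_one])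
      (fun h => by rw [h, orderOf_one] at hw; norm_num at hw)) hF P
  -- a map moving the central involution
  obtain ⟨x, ψ, hxz, hψ, hψx⟩ := f.nonisolated z hz1 (d.sq_one hzU) hzc
  have hx2 : x * x = 1 := f.map_involution hψ (x := ⟨x, mem_centralizer_singleton_iff.2 rfl⟩)
    (by rw [hψx]; exact d.sq_one hzU)
  have hx1 : x ≠ 1 := fun h => hz1 (by
    rw [← hψx]
    exact (congrArg ψ (Subtype.ext h : (⟨x, mem_centralizer_singleton_iff.2 rfl⟩ : centralizer ({x} : Set T)) = 1)).trans
      (map_one ψ))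
  by_cases hUc : ∀ g : T, g ∈ d.C
  · -- `U` is central
    have hxU : x ∈ d.U := d.involution_mem_of_C (hUc x) hx2
    have hCP : d.C ≤ centralizer ({x} : Set T) := fun g hg =>
      mem_centralizer_singleton_iff.2 (d.mem_C.1 hg x hxU).symm
    let g0 : d.C →* d.C := (ψ.comp (Subgroup.inclusion hCP)).codRestrict d.C (fun c => hUc _)
    have hg0 : Function.Bijective g0 := Finite.injective_iff_bijective.1 fun a b h => by
      have h' := f.injective hψ (congrArg Subtype.val h)
      exact Subgroup.inclusion_injective hCP h'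
    let α : MulAut d.C := MulEquiv.ofBijective g0 hg0
    have hαA : α ∈ A := hauto hψ hCP α fun c => rfl
    let xI : Invols d.C := ⟨⟨x, hUc x⟩, Subtype.ext hx2, fun h => hx1 (congrArg Subtype.val h)⟩
    have hαx : permHom d.C α xI = zI := Subtype.ext (Subtype.ext hψx)
    have hαz : permHom d.C α zI ≠ zI := fun h =>
      hxz (congrArg (fun v : Invols d.C => ((v.1 : d.C) : T)) ((permHom d.C α).injective (hαx.trans h.symm)))
    obtain ⟨φ, -, -, ht⟩ := exists_rotation hC2 hI hodd zI hRz hαA hαz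
    have eT : d.C ≃* T :=
      (MulEquiv.subgroupCongr (eq_top_iff.2 fun g _ => hUc g)).trans Subgroup.topEquiv
    rcases hhom φ ht with ⟨n, hn, ⟨e⟩⟩ | ⟨⟨e⟩⟩
    · rcases eq_or_lt_of_le hn with rfl | hn2
      · refine Or.inl ⟨2, le_rfl, nonempty_dihedral_two ?_ fun g => ?_⟩
        · rw [Nat.card_congr (eT.symm.trans e).toEquiv, Nat.card_congr Multiplicative.toAdd, Nat.card_prod,
            Nat.card_zmod]
          norm_num
        · refine (eT.symm.trans e).injective ?_
          rw [map_mul, map_one]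
          exact klein_sq _
      · exact Or.inr (Or.inr (Or.inr (Or.inl ⟨n, hn2, ⟨eT.symm.trans e⟩⟩)))
    · exact Or.inr (Or.inr (Or.inr (Or.inr ⟨eT.symm.trans e⟩)))
  push Not at hUc
  obtain ⟨s₀, hs₀⟩ := hUc
  have hconju : ∀ g : T, g ∉ d.C → g * u * g⁻¹ = z * u := by
    intro g hg
    rcases hcases _ (d.normal.conj_mem u huU g) with h | h | h | h
    · exact absurd (conj_eq_one_iff.1 h) hu1
    · exfalso
      apply hzu
      calc z = g⁻¹ * (g * z) := by rw [inv_mul_cancel_left]
        _ = g⁻¹ * (z * g) := by rw [hzc]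
        _ = g⁻¹ * ((g * u * g⁻¹) * g) := by rw [h]
        _ = u := by group
    · exfalso
      apply hg
      refine d.mem_C.2 fun v hv => ?_
      have hug : u * g = g * u := (mul_inv_eq_iff_eq_mul.1 h).symm
      rcases hcases v hv with rfl | rfl | rfl | rfl
      · simp
      · exact (hzc g).symm
      · exact hug
      · rw [mul_assoc, hug, ← mul_assoc, ← hzc g, mul_assoc]
    · exact h
  have hC_index : d.C.index = 2 := by
    rw [Subgroup.index_eq_two_iff]
    refine ⟨s₀, fun b => ?_⟩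
    by_cases hb : b ∈ d.C
    · refine Or.inr ⟨hb, fun h => hs₀ ((mul_mem_cancel_left hb).1 h)⟩
    · refine Or.inl ⟨?_, hb⟩
      refine d.mem_C.2 fun v hv => ?_
      have hbs : b * s₀ * u * (b * s₀)⁻¹ = u := by
        calc b * s₀ * u * (b * s₀)⁻¹ = b * (s₀ * u * s₀⁻¹) * b⁻¹ := by group
          _ = b * (z * u) * b⁻¹ := by rw [hconju _ hs₀]
          _ = (b * z) * u * b⁻¹ := by group
          _ = z * (b * u * b⁻¹) := by rw [hzc b]; group
          _ = z * z * u := by rw [hconju _ hb, mul_assoc]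
          _ = u := by rw [d.sq_one hzU, one_mul]
      have hub : u * (b * s₀) = b * s₀ * u := (mul_inv_eq_iff_eq_mul.1 hbs).symm
      rcases hcases v hv with rfl | rfl | rfl | rfl
      · simp
      · exact (hzc _).symm
      · exact hub
      · rw [mul_assoc, hub, ← mul_assoc, ← hzc (b * s₀), mul_assoc]
  have hsq : ∀ g : T, g * g ∈ d.C := fun g => Subgroup.mul_self_mem_of_index_two hC_index g
  have hfixU : ∀ {g : T}, g ∉ d.C → ∀ v ∈ d.U, Commute v g → v = 1 ∨ v = z := by
    intro g hg v hv hc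
    rcases hcases v hv with h | h | h | h
    · exact Or.inl h
    · exact Or.inr h
    · exfalso
      have := hconju g hg
      rw [← h, ← hc.eq, mul_inv_cancel_right, h] at this
      exact hwu this.symm
    · exfalso
      have h' : g * v * g⁻¹ = z * (g * u * g⁻¹) := by
        rw [h]
        calc g * (z * u) * g⁻¹ = (g * z) * u * g⁻¹ := by group
          _ = z * (g * u * g⁻¹) := by rw [hzc g]; group
      rw [hconju g hg, ← mul_assoc, d.sq_one hzU, one_mul, ← hc.eq, mul_inv_cancel_right, h] at h'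
      exact hwu h'
  have hcard : Nat.card T = 2 * Nat.card d.C := by rw [← d.C.card_mul_index, hC_index, mul_comm]
  have hT8 : 8 ≤ Nat.card T := by
    have := Subgroup.card_le_of_le d.U_le_C
    rw [d.card] at this
    omega
  have finishSmall : ∀ {t : T}, t ≠ 1 → t * t = 1 → Nat.card (centralizer ({t} : Set T)) ≤ 4 →
      Conclusion T F P := fun ht1 ht2 hc => by
    rcases Fixity.dihedral_or_quasiDihedral hT hT8 (orderOf_eq_prime (by rw [pow_two]; exact ht2) ht1) hc with
      ⟨m, ⟨e⟩⟩ | h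
    · exact Or.inl ⟨m, dihedral_two_le hnc e, ⟨e⟩⟩
    · exact Or.inr (Or.inl h)
  -- reduce to a map sending some `v ∈ U - ⟨z⟩` to `z`
  by_cases hsmall : ∃ t : T, t ≠ 1 ∧ t * t = 1 ∧ Nat.card (centralizer ({t} : Set T)) ≤ 4
  · obtain ⟨t, ht1, ht2, htc⟩ := hsmall
    exact finishSmall ht1 ht2 htc
  push Not at hsmall
  obtain ⟨v, χ, hvU, hvz, hv1, hχ, hχv⟩ : ∃ (v : T) (χ : centralizer ({v} : Set T) →* T),
      v ∈ d.U ∧ v ≠ z ∧ v ≠ 1 ∧ f.Rel _ χ ∧ χ ⟨v, mem_centralizer_singleton_iff.2 rfl⟩ = z := by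
    by_cases hxC : x ∈ d.C
    · exact ⟨x, ψ, d.involution_mem_of_C hxC hx2, hxz, hx1, hψ, hψx⟩
    obtain ⟨r, hrC, hrx, hr⟩ : ∃ r ∈ d.C, Commute r x ∧ r * r ≠ 1 := by
      by_contra hcon
      push Not at hcon
      have := small_of_squares d (I := centralizer ({x} : Set T)) hxC
        (fun i hi => mem_centralizer_singleton_iff.1 hi) hC_index hx2 (hfixU hxC) hcon
      exact absurd (hsmall x hx1 hx2) (not_lt.2 this)
    obtain ⟨k, hk2, hk1⟩ := exists_sq_power hT hr
    have hpow : r ^ k ∈ d.C := pow_mem hrC k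
    have hcx : Commute (r ^ k) x := hrx.pow_left k
    have hsqz : r ^ k * r ^ k = z :=
      (hfixU hxC _ (d.involution_mem_of_C (mul_mem hpow hpow) hk2) (hcx.mul_left hcx)).resolve_left hk1
    let rc : centralizer ({x} : Set T) := ⟨r ^ k, mem_centralizer_singleton_iff.2 hcx⟩
    let zc : centralizer ({x} : Set T) := ⟨z, mem_centralizer_singleton_iff.2 (hzc x).symm⟩
    have hψz : ψ zc = ψ rc * ψ rc := by rw [← map_mul]; exact congrArg ψ (Subtype.ext hsqz.symm)
    have hzcsq : zc * zc = 1 := Subtype.ext (d.sq_one hzU)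
    have hvU : ψ zc ∈ d.U :=
      d.involution_mem_of_C (hψz ▸ hsq _) (by rw [← map_mul, hzcsq, map_one])
    obtain ⟨χ, hχ, hχv⟩ := f.extend_inv hψ zc hzc
    refine ⟨ψ zc, χ, hvU, fun h => hxz ?_, fun h => hz1 ?_, hχ, hχv⟩
    · exact (congrArg Subtype.val (f.injective hψ (h.trans hψx.symm))).symm
    · exact congrArg Subtype.val (f.injective hψ (h.trans (map_one ψ).symm))
  have hCv : d.C ≤ centralizer ({v} : Set T) := fun g hg =>
    mem_centralizer_singleton_iff.2 (d.mem_C.1 hg v hvU).symm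
  set χC : d.C →* T := χ.comp (Subgroup.inclusion hCv) with hχC
  have hχCinj : Function.Injective χC := (f.injective hχ).comp (Subgroup.inclusion_injective hCv)
  let vC : d.C := ⟨v, d.U_le_C hvU⟩
  let zC : d.C := ⟨z, d.U_le_C hzU⟩
  have hχCv : χC vC = z := hχv
  set x' := χC zC with hx'
  have hx'2 : x' * x' = 1 := by
    rw [hx', ← map_mul, show zC * zC = 1 from Subtype.ext (d.sq_one hzU), map_one]
  have hx'z : x' ≠ z := fun h => hvz (congrArg Subtype.val (hχCinj (hχCv.trans h.symm)))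
  have hx'1 : x' ≠ 1 := fun h => hz1 (congrArg Subtype.val (hχCinj (h.trans (map_one χC).symm)))
  have hxcomm : ∀ c : d.C, Commute (χC c) x' := fun c => by
    show χC c * χC zC = χC zC * χC c
    rw [← map_mul, ← map_mul]
    exact congrArg χC (Subtype.ext (hzc c))
  have hx'C : x' ∈ d.C := by
    by_contra hx'C
    by_cases hbig : ∃ c : d.C, χC c ∈ d.C ∧ χC c * χC c ≠ 1
    · obtain ⟨c, hcC, hc⟩ := hbig
      obtain ⟨k, hk2, hk1⟩ := exists_sq_power hT hc
      have hcx : Commute (χC c ^ k) x' := (hxcomm c).pow_left k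
      have hsqz : χC c ^ k * χC c ^ k = z :=
        (hfixU hx'C _ (d.involution_mem_of_C (mul_mem (pow_mem hcC k) (pow_mem hcC k)) hk2)
          (hcx.mul_left hcx)).resolve_left hk1
      -- `v` is a square in `C`, hence so is its conjugate
      have hvsq : c ^ k * c ^ k = vC := hχCinj (by rw [map_mul, map_pow, hsqz, hχCv])
      let c' : d.C := ⟨s₀ * ((c ^ k : d.C) : T) * s₀⁻¹, d.C_normal.conj_mem _ (c ^ k).2 s₀⟩
      have hc' : (c' * c' : d.C) = zC * vC := by
        apply Subtype.ext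
        show s₀ * ((c ^ k : d.C) : T) * s₀⁻¹ * (s₀ * ((c ^ k : d.C) : T) * s₀⁻¹) = z * v
        calc _ = s₀ * (((c ^ k : d.C) : T) * ((c ^ k : d.C) : T)) * s₀⁻¹ := by group
          _ = s₀ * v * s₀⁻¹ := by rw [show ((c ^ k : d.C) : T) * ((c ^ k : d.C) : T) = v from congrArg Subtype.val hvsq]
          _ = z * v := by
            rcases hcases v hvU with rfl | rfl | rfl | rfl
            · exact absurd rfl hv1
            · exact absurd rfl hvz
            · exact hconju _ hs₀
            · calc s₀ * (z * u) * s₀⁻¹ = (s₀ * z) * u * s₀⁻¹ := by group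
                _ = z * (s₀ * u * s₀⁻¹) := by rw [hzc]; group
                _ = z * (z * u) := by rw [hconju _ hs₀]
      have hmem : x' * z ∈ d.C := by
        rw [hx', ← hχCv, ← map_mul, ← hc', map_mul]
        exact hsq _
      exact hx'C ((mul_mem_cancel_right (d.U_le_C hzU)).1 hmem)
    · push Not at hbig
      have hI4 : Nat.card χC.range ≤ 4 := by
        have hsub : ∀ i ∈ χC.range, i ∈ d.C → i = 1 ∨ i = z := by
          rintro _ ⟨c, rfl⟩ hi
          exact hfixU hx'C _ (d.involution_mem_of_C hi (hbig c hi)) (hxcomm c)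
        have hsub' : (χC.range : Set T) ⊆ (({1, z, x', z * x'} : Finset T) : Set T) := fun i hi => by
          simp only [Finset.coe_insert, Finset.coe_singleton, Set.mem_insert_iff, Set.mem_singleton_iff]
          by_cases h : i ∈ d.C
          · rcases hsub i hi h with h' | h'
            exacts [Or.inl h', Or.inr (Or.inl h')]
          · have hmem : i * x' ∈ d.C := by
              rw [Subgroup.mul_mem_iff_of_index_two hC_index]
              exact ⟨fun hh => absurd hh h, fun hh => absurd hh hx'C⟩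
            rcases hsub _ (mul_mem hi ⟨zC, rfl⟩) hmem with h' | h'
            · refine Or.inr (Or.inr (Or.inl ?_))
              calc i = i * x' * x' := by rw [mul_assoc, hx'2, mul_one]
                _ = x' := by rw [h', one_mul]
            · refine Or.inr (Or.inr (Or.inr ?_))
              calc i = i * x' * x' := by rw [mul_assoc, hx'2, mul_one]
                _ = z * x' := by rw [h']
        have h := Set.ncard_le_ncard hsub' (Set.toFinite _)
        rw [Set.ncard_coe_finset, ← Nat.card_coe_set_eq, SetLike.coe_sort_coe] at h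
        exact h.trans Finset.card_le_four
      rw [← Nat.card_congr (MonoidHom.ofInjective hχCinj).toEquiv] at hI4
      have hne : centralizer ({x'} : Set T) ≠ ⊤ := fun h => hx'C (d.mem_C.2 fun g hg =>
        mem_centralizer_singleton_iff.1 (h.symm ▸ Subgroup.mem_top g))
      have hidx : 2 ≤ (centralizer ({x'} : Set T)).index := by
        have h0 : (centralizer ({x'} : Set T)).index ≠ 0 := Subgroup.index_ne_zero_of_finite
        have h1 : (centralizer ({x'} : Set T)).index ≠ 1 := fun h => hne (Subgroup.index_eq_one.1 h)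
        omega
      have hprod := (centralizer ({x'} : Set T)).card_mul_index
      have := hsmall x' hx'1 hx'2
      nlinarith
  have hx'U : x' ∈ d.U := d.involution_mem_of_C hx'C hx'2
  have himgC : ∀ c : d.C, χC c ∈ d.C := fun c => by
    by_contra h
    rcases hfixU h x' hx'U (hxcomm c).symm with h' | h'
    exacts [hx'1 h', hx'z h']
  let g0 : d.C →* d.C := χC.codRestrict d.C himgC
  have hg0 : Function.Bijective g0 :=
    Finite.injective_iff_bijective.1 fun a b h => hχCinj (congrArg Subtype.val h)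
  let α : MulAut d.C := MulEquiv.ofBijective g0 hg0
  have hαA : α ∈ A := hauto hχ hCv α fun c => rfl
  have hαz : permHom d.C α zI ≠ zI := fun h =>
    hx'z (congrArg (fun w : Invols d.C => ((w.1 : d.C) : T)) h)
  have hρsq : ∀ ρ ∈ R, ρ * ρ ∈ inn d.C := by
    rintro _ ⟨g, rfl⟩
    refine ⟨⟨g * g, hsq g⟩, ?_⟩
    rw [← map_mul]
    ext c
    rw [MulAut.conjNormal_apply]
    rfl
  have hmove : ∃ ρ ∈ R, permHom d.C ρ ≠ 1 := by
    refine ⟨_, ⟨s₀, rfl⟩, fun h => hwu ?_⟩
    have h' := congrArg (fun w : Invols d.C => ((w.1 : d.C) : T))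
      (congrArg (fun τ : Equiv.Perm (Invols d.C) => τ uI) h)
    exact (hconju _ hs₀).symm.trans h'
  obtain ⟨σ, ⟨s, rfl⟩, φ, hσne, hfix, hfix2, ht, hinvφ⟩ :=
    exists_inverted hC2 hI hRA hR2 hodd hρsq zI hRz hαA hαz hmove
  have hsC : s ∉ d.C := fun h => hσne (Equiv.ext fun w => by
    apply Subtype.ext
    apply Subtype.ext
    show s * (w.1 : T) * s⁻¹ = (w.1 : T)
    have hwU' := d.involution_mem_of_C w.1.2 (congrArg Subtype.val w.2.1)
    rw [← d.mem_C.1 h _ hwU', mul_inv_cancel_right])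
  -- an involution outside `C`
  obtain ⟨y, hyc, hy⟩ := exists_involution_twist d.C (hsq s) φ hfix hinvφ
  set t := (y : T) * s with ht'
  have htC : t ∉ d.C := fun h => hsC ((mul_mem_cancel_left y.2).1 h)
  have hσt : MulAut.conjNormal (H := d.C) t = MulAut.conjNormal s := by
    rw [ht', map_mul]
    have : MulAut.conjNormal (H := d.C) (y : T) = 1 := by
      ext c
      rw [MulAut.conjNormal_apply]
      show (y : T) * c * (y : T)⁻¹ = c
      rw [show (y : T) * c = c * y from congrArg Subtype.val (hyc c), mul_inv_cancel_right]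
    rw [this, one_mul]
  have ht1 : t ≠ 1 := fun h => htC (h ▸ one_mem _)
  have htbig := hsmall t ht1 hy
  rcases hhom φ ht with ⟨n, hn, ⟨e⟩⟩ | ⟨⟨e⟩⟩
  · rcases eq_or_lt_of_le hn with rfl | hn2
    · -- then `C = U` and the centralizer of `t` has order four
      exfalso
      have hC4 : Nat.card d.C = 4 := by
        rw [Nat.card_congr e.toEquiv, Nat.card_congr Multiplicative.toAdd, Nat.card_prod, Nat.card_zmod]
        norm_num
      have := small_of_squares d (I := centralizer ({t} : Set T)) htC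
        (fun i hi => mem_centralizer_singleton_iff.1 hi) hC_index hy (hfixU htC) (fun i hi _ => by
          refine congrArg Subtype.val (e.injective (?_ : e (⟨i, hi⟩ * ⟨i, hi⟩) = e 1))
          rw [map_mul, map_one]
          exact klein_sq _)
      omega
    · -- wreathed
      obtain ⟨k, rfl⟩ : ∃ k, n = k + 1 := ⟨n - 1, by omega⟩
      obtain ⟨a, ha⟩ := exists_root_of_homocyclic k e (v := ⟨u, d.U_le_C huU⟩) (Subtype.ext (d.sq_one huU))
      have haT : (a : T) ^ 2 ^ k = u := congrArg Subtype.val ha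
      have hord : orderOf (a : T) = 2 ^ (k + 1) := orderOf_eq_prime_pow (by rw [haT]; exact hu1)
        (by rw [pow_succ, pow_mul, haT, pow_two, d.sq_one huU])
      let b : d.C := ⟨t * a * t⁻¹, d.C_normal.conj_mem _ a.2 t⟩
      have hbpow : (b : T) ^ 2 ^ k = z * u := by
        show (t * (a : T) * t⁻¹) ^ 2 ^ k = z * u
        rw [conj_pow, haT, hconju t htC]
      have hbord : orderOf (b : T) = 2 ^ (k + 1) := by
        show orderOf (t * (a : T) * t⁻¹) = _
        rw [← MulAut.conj_apply, MulEquiv.orderOf_eq, hord]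
      refine Or.inr (Or.inr (Or.inl ⟨k + 1, hn2, ?_, a, b, t, hord, ?_, ?_,
        orderOf_eq_prime (by rw [pow_two]; exact hy) ht1, rfl⟩))
      · rw [hcard, Nat.card_congr e.toEquiv, Nat.card_congr Multiplicative.toAdd, Nat.card_prod, Nat.card_zmod]
        ring
      · exact congrArg Subtype.val (e.injective (by rw [map_mul, map_mul, mul_comm]) : a * b = b * a)
      · rw [eq_bot_iff]
        intro g hg
        by_contra hg1
        rw [Subgroup.mem_bot] at hg1
        obtain ⟨m, hm⟩ := hT g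
        obtain ⟨i, -, hio⟩ := (Nat.dvd_prime_pow Nat.prime_two).1 (orderOf_dvd_of_pow_eq_one hm)
        obtain ⟨l, rfl⟩ : ∃ l, i = l + 1 := ⟨i - 1, by
          rcases i with _ | i
          · exact absurd (orderOf_eq_one_iff.1 (by rw [hio, pow_zero])) hg1
          · rfl⟩
        have hg2 : g ^ 2 ^ l * g ^ 2 ^ l = 1 := by
          rw [← pow_add, ← two_mul, ← pow_succ', ← hio, pow_orderOf_eq_one]
        have hg3 : g ^ 2 ^ l ≠ 1 := fun h => by
          have := Nat.le_of_dvd (by positivity) (orderOf_dvd_of_pow_eq_one h)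
          rw [hio, pow_succ'] at this
          have : 0 < 2 ^ l := by positivity
          omega
        have h1' := (eq_one_or_of_mem_zpowers hord (pow_mem hg.1 _) hg2).resolve_left hg3
        have h2' := (eq_one_or_of_mem_zpowers hbord (pow_mem hg.2 _) hg2).resolve_left hg3
        rw [haT] at h1'
        rw [hbpow] at h2'
        exact hwu (h2'.symm.trans h1')
  · -- the order 64 group is impossible
    exfalso
    obtain ⟨V, hV⟩ := sixty_of_equiv hF P e
    have hzV : zC ∈ V := (hV.mem _).2 (Subtype.ext (d.sq_one hzU))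
    refine false_of_sixty hV (MulAut.conjNormal t) φ ?_ (fun c => by rw [hσt]; exact hinvφ c) hfix2 zC hzV
      (fun h => hz1 (congrArg Subtype.val h)) ?_ ?_
    · intro c
      rw [← MulAut.mul_apply, ← map_mul, show t * t = 1 from hy, map_one]
      rfl
    · apply Subtype.ext
      rw [MulAut.conjNormal_apply]
      show t * z * t⁻¹ = z
      rw [hzc, mul_inv_cancel_right]
    · intro w hw hfix'
      have h' : t * (w : T) * t⁻¹ = w := by
        rw [← MulAut.conjNormal_apply]; exact congrArg Subtype.val hfix'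
      have hwU' := d.involution_mem_of_C w.2 (congrArg Subtype.val ((hV.mem w).1 hw))
      rcases hfixU htC _ hwU' (mul_inv_eq_iff_eq_mul.1 h').symm with h'' | h''
      · exact Or.inl (Subtype.ext h'')
      · exact Or.inr (Subtype.ext h'')

end Cfsg.Agent.AlperinRankTwo
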