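import Cfsg.Agent.Lib.AlperinRankTwo.Constrained
import Cfsg.Agent.S5337
import Cfsg.Agent.S5144

/-!
# Simple fusion systems over 2-groups of 2-rank two have dihedral, quasidihedral or wreathed Sylow groups (helper91)
-/

set_option autoImplicit false

namespace Cfsg.Agent.AlperinRankTwo

open Cfsg.FusionSystem Cfsg.Agent.Fusion

variable {Ω : Type*} [Group Ω] {S : Subgroup Ω} [Finite S] {F : Cfsg.FusionSystem S} {p : ℕ}

theorem exists_iso_of_normal {T : Subgroup Ω} (hn : F.IsNormal T) {P : Subgroup Ω} {f : Ω → Ω}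
    (hf : IsMap F P f) : ∃ g, IsMap F (P ⊔ T) g ∧ (∀ x ∈ P, g x = f x) ∧ IsIso F T T g := by
  obtain ⟨φ, hφ, e⟩ := hf
  obtain ⟨ψ, hψ, h1, h2⟩ := hn.2 P φ hφ
  refine ⟨toFn ψ, isMap_toFn hψ, fun x hx => ?_, (isMap_toFn hψ).mono le_sup_right, ?_⟩
  · rw [toFn_apply ψ (Subgroup.mem_sup_left hx)]
    exact (h1 ⟨x, hx⟩).trans (e x hx)
  · refine IsIso.img_eq_of (isMap_toFn hψ) le_sup_right (fun x hx => ?_) fun y hy => ?_
    · rw [toFn_apply ψ (Subgroup.mem_sup_right hx)]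
      exact h2.le (Subgroup.mem_map_of_mem ψ (x := ⟨x, Subgroup.mem_sup_right hx⟩) hx)
    · obtain ⟨⟨x, hx⟩, hxT, rfl⟩ := h2.ge hy
      exact ⟨x, hxT, toFn_apply ψ hx⟩

/-- A normal abelian subgroup carries a normal subsystem with trivial maps. -/
theorem inner_normal_of_isNormal (hF : F.IsSaturated p) {T : Subgroup Ω}
    (hn : F.IsNormal T) (hT : ∀ x ∈ T, ∀ y ∈ T, x * y = y * x) : (innerFusionSystem T).IsNormalIn F p := by
  haveI := finite_of_le hn.1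
  refine ⟨⟨S5337.inner_saturated hT p, hF, ?_, ⟨hn.1, ?_⟩, ?_, ?_⟩, ?_⟩
  · rintro P φ ⟨hP, g, hg, h⟩
    exact mem_of_isMap (IsMap.conj (F := F) (hP.trans hn.1) (hn.1 hg)) h
  · intro R hR φ hφ x
    obtain ⟨g, -, e, hiso⟩ := exists_iso_of_normal hn (isMap_toFn hφ)
    rw [← toFn_coe φ x, ← e x x.2]
    exact hiso.mem (hR x.2)
  · intro P hPT φ hφ α hα
    obtain ⟨χ, hχ, hχe⟩ := IsMap.id (F := innerFusionSystem T)
      (P := (P.subgroupOf T).map (T.subtype.comp α.toMonoidHom)) (by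
        rintro _ ⟨y, -, rfl⟩
        exact (α y).2)
    refine ⟨χ, hχ, fun x hφx hαx => ?_⟩
    rw [hχe]
    have e : φ x = x := by
      rw [← toFn_coe φ x]
      exact S5337.inner_isMap hT (isMap_toFn hφ) x x.2
    congr 2
    exact congrArg α (Subtype.ext e.symm)
  · intro P hP φ hφ
    obtain ⟨g, -, e, hiso⟩ := exists_iso_of_normal hn (isMap_toFn hφ)
    obtain ⟨β, hβ, hβe⟩ := exists_aut_of_isIso hiso
    obtain ⟨φ₀, hφ₀, hφ₀e⟩ := IsMap.id (F := innerFusionSystem T) hP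
    refine ⟨β, hβ, φ₀, hφ₀, fun x hx => ?_⟩
    rw [hβe]
    show _ = g (φ₀ x)
    rw [show φ₀ x = (x : Ω) from hφ₀e x x.2, e x x.2, toFn_coe]
  · intro α hα
    refine ⟨1, one_mem _, fun x => ?_, fun c _ => by simp⟩
    rw [S5337.inner_autGroup hT le_rfl, Subgroup.mem_bot] at hα
    rw [hα]
    rfl

theorem abelian_normal_eq (hs : F.IsSimple p) {T : Subgroup Ω} (hn : F.IsNormal T)
    (hT : ∀ x ∈ T, ∀ y ∈ T, x * y = y * x) : T = ⊥ ∨ T = S :=
  (hs.2.2 T _ (inner_normal_of_isNormal hs.1 hn hT)).imp_right And.left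

theorem center_eq_bot (hs : F.IsSimple p) (hnc : ¬ ∀ x y : S, x * y = y * x) : F.center = ⊥ := by
  have hc := S5144.result F
  have hcomm : ∀ x ∈ F.center, ∀ y ∈ S, x * y = y * x := fun x hx y hy =>
    (Subgroup.mem_centralizer_iff.1 (mem_center_centralizer hx).2 y hy).symm
  refine (abelian_normal_eq hs ⟨hc.1, fun P φ hφ => ?_⟩ fun x hx y hy => hcomm x hx y (hc.1 hy)).resolve_right
    fun h => hnc fun x y => Subtype.ext (hcomm x (h.symm ▸ x.2) y y.2)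
  obtain ⟨ψ, hψ, h1, h2⟩ := hc.2 P φ hφ
  refine ⟨ψ, hψ, h1, ?_⟩
  ext y
  constructor
  · rintro ⟨⟨x, hx⟩, hxQ, rfl⟩
    have : ψ ⟨x, hx⟩ = x := h2 ⟨x, hxQ⟩
    rw [this]
    exact hxQ
  · intro hy
    exact ⟨Subgroup.inclusion le_sup_right ⟨y, hy⟩, hy, h2 ⟨y, hy⟩⟩

theorem isNormal_center_of_top (hn : F.IsNormal S) :
    F.IsNormal (S ⊓ Subgroup.centralizer (S : Set Ω)) := by
  refine ⟨inf_le_left, fun P φ hφ => ?_⟩
  obtain ⟨g, hg, e, hiso⟩ := exists_iso_of_normal hn (isMap_toFn hφ)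
  have hle : P ⊔ (S ⊓ Subgroup.centralizer (S : Set Ω)) ≤ P ⊔ S := sup_le_sup_left inf_le_left P
  obtain ⟨ψ, hψ, hψe⟩ := hg.mono hle
  refine ⟨ψ, hψ, fun x => ?_, ?_⟩
  · exact (hψe _ _).trans ((e x x.2).trans (toFn_coe φ x))
  have hmem : ∀ x ∈ S ⊓ Subgroup.centralizer (S : Set Ω), g x ∈ S ⊓ Subgroup.centralizer (S : Set Ω) := by
    intro x hx
    refine ⟨hiso.mem hx.1, Subgroup.mem_centralizer_iff.2 fun s hs => ?_⟩
    obtain ⟨t, ht, rfl⟩ := hiso.exists_eq hs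
    rw [← hiso.1.map_mul ht hx.1, ← hiso.1.map_mul hx.1 ht, Subgroup.mem_centralizer_iff.1 hx.2 t ht]
  have himg : img g (S ⊓ Subgroup.centralizer (S : Set Ω)) = S ⊓ Subgroup.centralizer (S : Set Ω) :=
    eq_of_le_of_card inf_le_left (hiso.1.img_le inf_le_left hmem) (hiso.1.card_img inf_le_left).ge
  ext y
  constructor
  · rintro ⟨⟨x, hx⟩, hxT, rfl⟩
    rw [hψe]
    exact hmem x hxT
  · intro hy
    obtain ⟨x, hx, rfl⟩ := (hiso.1.mem_img_iff inf_le_left).1 (himg.symm ▸ hy)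
    exact ⟨⟨x, Subgroup.mem_sup_right hx⟩, hx, hψe _ _⟩

/-- A simple system over a 2-group of 2-rank two lives on a dihedral, quasidihedral or wreathed group. -/
theorem simple_shape (hS : IsPGroup 2 S) (hs : F.IsSimple 2)
    (hr : Cfsg.PRankAtLeast 2 2 ↥S ∧ ¬ Cfsg.PRankAtLeast 2 3 ↥S) :
    ((∃ m : ℕ, 4 ≤ m ∧ Nonempty (↥S ≃* DihedralGroup m)) ∨ Cfsg.IsQuasiDihedral ↥S ∨ Cfsg.IsWreathed ↥S) ∧
      F.center = ⊥ := by
  haveI : Fact (Nat.Prime 2) := ⟨Nat.prime_two⟩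
  obtain ⟨⟨A, hA, hA2, hA4⟩, h3⟩ := hr
  have h1 : ¬ Cfsg.PRankLE 2 1 ↥S := fun h => by
    have := hA4.trans (h A hA hA2)
    norm_num at this
  have hnc : ¬ ∀ x y : S, x * y = y * x := fun h => by
    have hc := ((S5337.result 2 hS F hs.1 fun x hx y hy => congrArg Subtype.val (h ⟨x, hx⟩ ⟨y, hy⟩)).1 hs).1
    have := hA4.trans ((Nat.le_of_dvd Nat.card_pos A.card_subgroup_dvd_card).trans_eq hc)
    norm_num at this
  have hZ := center_eq_bot hs hnc
  refine ⟨?_, hZ⟩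
  haveI : Fintype (GaloisField 2 4) := Fintype.ofFinite _
  have hK : Fintype.card (GaloisField 2 4) = 16 := by
    rw [← Nat.card_eq_fintype_card, GaloisField.card 2 4 (by norm_num)]
    norm_num
  obtain ⟨T⟩ : Nonempty (Sylow 2 (Cfsg.PSU 3 (GaloisField 2 4) 4)) := inferInstance
  rcases main hS (prankLE_of_not_atLeast hS h3) h1 (systemFusion hS hs.1 hZ) hK T with
    ⟨m, hm, ⟨e⟩⟩ | h | h | ⟨n, -, ⟨e⟩⟩ | ⟨⟨e⟩⟩
  · obtain ⟨k, hk⟩ := hS.exists_card_eq
    rw [Nat.card_congr e.toEquiv, DihedralGroup.nat_card] at hk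
    refine Or.inl ⟨m, ?_, ⟨e⟩⟩
    by_contra hm4
    obtain rfl | rfl : m = 2 ∨ m = 3 := by omega
    · refine hnc fun x y => e.injective ?_
      rw [map_mul, map_mul]
      generalize e x = a, e y = b
      revert a b
      decide
    · have : 3 ∣ 2 ^ k := hk ▸ ⟨2, by norm_num⟩
      exact absurd ((Nat.prime_dvd_prime_iff_eq Nat.prime_three Nat.prime_two).1
        (Nat.prime_three.dvd_of_dvd_pow this)) (by norm_num)
  · exact Or.inr (Or.inl h)
  · exact Or.inr (Or.inr h)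
  · exact absurd (fun x y => e.injective (by rw [map_mul, map_mul, mul_comm])) hnc
  · exfalso
    have hn := S5214.result hS F hs.1 (suzuki_of_equiv e.symm (suzuki_sylow hK T))
    rcases abelian_normal_eq hs (isNormal_center_of_top hn) (fun x hx y hy =>
      (Subgroup.mem_centralizer_iff.1 hx.2 y hy.1).symm) with h | h
    · haveI : Nontrivial S := (Subgroup.nontrivial_iff_ne_bot S).2 hs.2.1
      obtain ⟨⟨z, hzc⟩, hz⟩ := @exists_ne _ hS.center_nontrivial 1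
      have hmem : (z : Ω) ∈ S ⊓ Subgroup.centralizer (S : Set Ω) :=
        ⟨z.2, Subgroup.mem_centralizer_iff.2 fun s hs' =>
          congrArg Subtype.val (Subgroup.mem_center_iff.1 hzc ⟨s, hs'⟩)⟩
      rw [h, Subgroup.mem_bot] at hmem
      exact hz (Subtype.ext (Subtype.ext hmem))
    · exact hnc fun x y => Subtype.ext (by
        have hx : (x : Ω) ∈ S ⊓ Subgroup.centralizer (S : Set Ω) := h.symm ▸ x.2
        exact (Subgroup.mem_centralizer_iff.1 hx.2 y y.2).symm)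

end Cfsg.Agent.AlperinRankTwo
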