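import Cfsg.Agent.Lib.AlperinRankTwo.Simple
import Cfsg.Agent.Lib.AlperinRankTwo.IndexTwo
import Cfsg.Agent.Lib.FusionRankTwo.Shapes
import Cfsg.Agent.Lib.FusionIso.Realize

/-!
# Simple systems of 2-rank two are those of `PSL₂(q)` and `PSL₃(q)` (helper91)
-/

set_option autoImplicit false

namespace Cfsg.Agent.AlperinRankTwo

open Cfsg Cfsg.FusionSystem Cfsg.Agent.Fusion Cfsg.Agent.FusionRankTwo QDWreath Matrix
open scoped MatrixGroups

universe u

variable {Ω : Type u} [Group Ω] {S : Subgroup Ω} [Finite S] {F : Cfsg.FusionSystem S}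

theorem mult_zmod_two : ∀ v w : Multiplicative (ZMod 2), v ≠ 1 → w ≠ 1 → w = v := by decide

/-- A simple system has no character invariant on its essential subgroups. -/
theorem false_of_char (hS : IsPGroup 2 S) (hs : F.IsSimple 2) (h4 : 4 ≤ Nat.card S)
    (hA : IsPGroup 2 (MulAut S)) (χ : S →* Multiplicative (ZMod 2)) {x₀ : S} (hx₀ : χ x₀ ≠ 1)
    (hess : ∀ E : Subgroup S, F.IsEssential 2 (lift E) → ∀ α ∈ autS F E, ∀ x : E, χ (α x : S) = χ (x : S)) :
    False := by
  haveI : Fact (Nat.Prime 2) := ⟨Nat.prime_two⟩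
  have hinv : ∀ (R : Subgroup Ω) (f : Ω → Ω), IsMap F R f →
      ∀ x y : S, (x : Ω) ∈ R → (y : Ω) = f x → χ y = χ x := by
    intro R f hf
    refine alperin_essential hS hs.1
      (fun R f => ∀ x y : S, (x : Ω) ∈ R → (y : Ω) = f x → χ y = χ x)
      (fun R f g _ h e x y hx hy => h x y hx (hy.trans (e x hx).symm))
      (fun R R' f _ hle h x y hx hy => h x y (hle hx) hy)
      (fun R R' f g hf _ hm h1 h2 x y hx hy => (h2 ⟨f x, hf.mem hx⟩ y (hm x hx) hy).trans
        (h1 x ⟨f x, hf.mem hx⟩ hx rfl))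
      (fun R hR α hα x y hx hy => ?_) hf
    rcases hR with rfl | hR
    · obtain ⟨g, hg, e⟩ := top_inner hS hs.1 hA hα
      rw [autFn_apply α x.2, e] at hy
      rw [show y = (⟨g, hg⟩ : R) * x * (⟨g, hg⟩ : R)⁻¹ from Subtype.ext hy, map_mul, map_mul, map_inv,
        mul_comm (χ ⟨g, hg⟩), mul_inv_cancel_right]
    · obtain ⟨E, rfl, -⟩ := essential_spec hS hs.1 hR
      have hxE : x ∈ E := (Subgroup.mem_map_iff_mem S.subtype_injective).1 hx
      have hm : (MulAut.congr (liftEquiv E)).symm α ∈ autS F E := by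
        show MulAut.congr (liftEquiv E) _ ∈ F.autGroup _
        rwa [MulEquiv.apply_symm_apply]
      have h1 := congr_autFn ((MulAut.congr (liftEquiv E)).symm α) ⟨x, hxE⟩
      rw [MulEquiv.apply_symm_apply] at h1
      rw [show y = (((MulAut.congr (liftEquiv E)).symm α) ⟨x, hxE⟩ : S) from Subtype.ext (hy.trans h1)]
      exact hess E hR _ hm _
  have hsurj : Function.Surjective χ := fun v => by
    rcases eq_or_ne v 1 with rfl | hv
    · exact ⟨1, map_one χ⟩
    · refine ⟨x₀, ?_⟩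
      exact mult_zmod_two v (χ x₀) hv hx₀
  refine false_of_relIndex_two hS hs h4 (T := χ.ker.map S.subtype) (Subgroup.map_subtype_le _) ?_ ?_
  · rw [Subgroup.relIndex, Subgroup.subgroupOf, Subgroup.comap_map_eq_self_of_injective S.subtype_injective,
      Subgroup.index_ker, MonoidHom.range_eq_top.2 hsurj, Subgroup.card_top]
    simp
  · intro P f hf v hv
    refine ⟨⟨v, hf.le hv⟩⁻¹ * ⟨f v, hf.mem hv⟩, ?_, rfl⟩
    rw [SetLike.mem_coe, MonoidHom.mem_ker, map_mul, map_inv,
      hinv P f hf ⟨v, hf.le hv⟩ ⟨f v, hf.mem hv⟩ hv rfl, inv_mul_cancel]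

theorem isRealizedBy_psl_three {q : ℕ} [Fact q.Prime] (hS : IsPGroup 2 S) (ι : S →* SL(3, ZMod q))
    (P : Sylow 2 SL(3, ZMod q)) (hP : ι.range = (P : Subgroup SL(3, ZMod q))) (h : F.IsRealizedBy ι) :
    ∃ ι' : S →* Matrix.ProjectiveSpecialLinearGroup (Fin 3) (ZMod q), F.IsRealizedBy ι' ∧
      ∃ T : Sylow 2 (Matrix.ProjectiveSpecialLinearGroup (Fin 3) (ZMod q)),
        (T : Subgroup (Matrix.ProjectiveSpecialLinearGroup (Fin 3) (ZMod q))) = ι'.range := by
  haveI : Fact (Nat.Prime 2) := ⟨Nat.prime_two⟩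
  have hcop : (Nat.card (Subgroup.center SL(3, ZMod q))).Coprime 2 := by
    rw [Nat.coprime_two_right, GLOrder.card_center_SL, Fintype.card_fin]
    exact Odd.of_dvd_nat (by decide) (Nat.gcd_dvd_left _ _)
  refine ⟨_, FusionIso.isRealizedBy_quotient hS h hcop,
    P.mapSurjective (QuotientGroup.mk'_surjective _), ?_⟩
  rw [MonoidHom.range_comp, hP]
  rfl

theorem psl_two_mod_eight {q n : ℕ} [Fact q.Prime] (h4 : q % 4 = 3) (hn : 2 ≤ n)
    (P : Sylow 2 (Matrix.ProjectiveSpecialLinearGroup (Fin 2) (ZMod q)))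
    (hP : Nat.card (P : Subgroup (Matrix.ProjectiveSpecialLinearGroup (Fin 2) (ZMod q))) = 2 ^ (n + 1)) :
    q % 8 = 7 := by
  by_contra h
  have h8 : q % 8 = 3 := by omega
  have hc := GLOrder.card_PSL_two_of_odd (F := ZMod q) (by rw [Nat.card_zmod, Nat.odd_iff]; omega)
  rw [Nat.card_zmod] at hc
  have hd : 8 ∣ Nat.card (Matrix.ProjectiveSpecialLinearGroup (Fin 2) (ZMod q)) :=
    ((show (8 : ℕ) = 2 ^ 3 from rfl) ▸ pow_dvd_pow 2 (by omega : 3 ≤ n + 1)).trans
      (hP ▸ Subgroup.card_subgroup_dvd_card _)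
  have hmul := Nat.mul_dvd_mul_left 2 hd
  rw [hc] at hmul
  obtain ⟨k, hk⟩ : ∃ k, q = 8 * k + 3 := ⟨q / 8, by omega⟩
  have hm : q * (q ^ 2 - 1) % 16 = 8 := by
    rw [hk, show (8 * k + 3) ^ 2 - 1 = 16 * (4 * k * k + 3 * k) + 8 from
      Nat.sub_eq_of_eq_add (by ring), show (8 * k + 3) * (16 * (4 * k * k + 3 * k) + 8) =
      16 * ((8 * k + 3) * (4 * k * k + 3 * k) + (4 * k + 1)) + 8 by ring, Nat.mul_add_mod]
  omega

/-- A simple system of 2-rank two is realized by `PSL₂(q)` or `PSL₃(q)`. -/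
theorem simple_realize (hS : IsPGroup 2 S) (hs : F.IsSimple 2)
    (hshape : (∃ m : ℕ, 4 ≤ m ∧ Nonempty (↥S ≃* DihedralGroup m)) ∨ Cfsg.IsQuasiDihedral ↥S ∨
      Cfsg.IsWreathed ↥S) :
    ∃ (K : Type) (_ : Field K) (_ : Fintype K) (q : ℕ), Fintype.card K = q ∧ Odd q ∧
      (((q % 8 = 1 ∨ q % 8 = 7) ∧ ∃ ι : ↥S →* Matrix.ProjectiveSpecialLinearGroup (Fin 2) K, F.IsRealizedBy ι ∧
          ∃ T : Sylow 2 (Matrix.ProjectiveSpecialLinearGroup (Fin 2) K),
            (T : Subgroup (Matrix.ProjectiveSpecialLinearGroup (Fin 2) K)) = ι.range) ∨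
        (∃ ι : ↥S →* Matrix.ProjectiveSpecialLinearGroup (Fin 3) K, F.IsRealizedBy ι ∧
          ∃ T : Sylow 2 (Matrix.ProjectiveSpecialLinearGroup (Fin 3) K),
            (T : Subgroup (Matrix.ProjectiveSpecialLinearGroup (Fin 3) K)) = ι.range)) := by
  haveI : Fact (Nat.Prime 2) := ⟨Nat.prime_two⟩
  have hrange : ∀ {G : Type} [Group G] (P : Subgroup G) (e : S ≃* P),
      (P.subtype.comp e.toMonoidHom).range = P := fun P e => by
    rw [MonoidHom.range_comp, MonoidHom.range_eq_top.2 e.surjective, ← MonoidHom.range_eq_map,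
      Subgroup.range_subtype]
  have hmc : ∀ {n : ℕ} {r s : ZMod (2 ^ n)} (d : MC S n r s) (_ : s = 0 ∨ 3 ≤ n),
      ∀ p, d.Act F p := by
    intro n r s d hbig p
    by_contra hp
    refine false_of_char hS hs (by rw [d.card]; exact le_trans (by norm_num) (Nat.pow_le_pow_right two_pos
      (by have := d.prm.hn; omega : 2 ≤ n + 1))) (d.top_mulAut hbig) (d.chi (p + 1)) (x₀ := d.a 1)
      (by rw [MC.chi_a, map_one]; exact ofAdd_one_ne) fun E hE α _ x => ?_
    obtain ⟨i, he, -, hA⟩ := d.essential_E hS hs.1 hE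
    obtain rfl : E = d.E i := Subgroup.map_injective S.subtype_injective he
    have hi : d.par i = p + 1 := by
      by_contra hne
      exact hp ⟨i, (zmod_two_cases _ _).resolve_right hne, hA⟩
    rw [d.chi_E hbig hi (α x).2, d.chi_E hbig hi x.2]
  have hmceq : ∀ {n : ℕ} {r s : ZMod (2 ^ n)} (d : MC S n r s) (_ : s = 0 ∨ 3 ≤ n)
      {G : Type} [Group G] [Finite G] (ι : S →* G) (hι : Function.Injective ι) (P : Sylow 2 G),
      ι.range = (P : Subgroup G) → commutator G = ⊤ → F.IsRealizedBy ι := by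
    intro n r s d hbig G _ _ ι hι P hP hG
    have hsat : (FusionMetaTwo.realSys ι hι).IsSaturated 2 :=
      isSaturated_of_realized (FusionMetaTwo.realSys_isRealizedBy ι hι) ⟨P, hP.symm⟩
    rw [ext_of_le (d.le_of_act hS hbig hs.1 fun v _ => d.act_of_perfect hS hbig ι hι P hP hG v)
      (d.le_of_act hS hbig hsat fun v _ => hmc d hbig v)]
    exact FusionMetaTwo.realSys_isRealizedBy ι hι
  rcases hshape with ⟨m, hm, ⟨e⟩⟩ | h | h
  · obtain ⟨k, hk⟩ := hS.exists_card_eq
    rw [Nat.card_congr e.toEquiv, DihedralGroup.nat_card] at hk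
    obtain ⟨n, rfl⟩ : ∃ n, k = n + 1 := ⟨k - 1, by
      rcases Nat.eq_zero_or_pos k with h | h
      · subst h; omega
      · omega⟩
    obtain rfl : m = 2 ^ n := by rw [pow_succ] at hk; omega
    have hn : 2 ≤ n := by
      by_contra h
      have := Nat.pow_le_pow_right two_pos (show n ≤ 1 by omega)
      omega
    let d := MC.ofDihedral hn e
    obtain ⟨q, hq, P, hq3, h4, ⟨d'⟩, hG⟩ := exists_psl_dihedral hn
    haveI := hq
    let ι : S →* Matrix.ProjectiveSpecialLinearGroup (Fin 2) (ZMod q) :=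
      (P : Subgroup (Matrix.ProjectiveSpecialLinearGroup (Fin 2) (ZMod q))).subtype.comp (d.equiv d').toMonoidHom
    refine ⟨ZMod q, inferInstance, inferInstance, q, ZMod.card q, Nat.odd_iff.2 (by omega), Or.inl
      ⟨Or.inr (psl_two_mod_eight h4 hn P d'.card), ι, ?_, P, (hrange _ _).symm⟩⟩
    exact hmceq d (Or.inl rfl) ι (Subtype.val_injective.comp (d.equiv d').injective) P (hrange _ _) hG
  · obtain ⟨n, ⟨d₀⟩⟩ := nonempty_qdData h
    let d := MC.ofQD d₀
    obtain ⟨q, hq, P, hq3, h4, ⟨d₁⟩⟩ := exists_sl3_qd d₀.hn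
    haveI := hq
    let d' := MC.ofQD d₁
    let ι : S →* SL(3, ZMod q) := (P : Subgroup SL(3, ZMod q)).subtype.comp (d.equiv d').toMonoidHom
    refine ⟨ZMod q, inferInstance, inferInstance, q, ZMod.card q, Nat.odd_iff.2 (by omega), Or.inr
      (isRealizedBy_psl_three hS ι P (hrange _ _) ?_)⟩
    exact hmceq d (Or.inl rfl) ι (Subtype.val_injective.comp (d.equiv d').injective) P (hrange _ _) perfect_SL3
  · obtain ⟨n, ⟨d⟩⟩ := nonempty_wrData h
    have h4S : 4 ≤ Nat.card S := by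
      by_contra hlt
      have h1 := Subgroup.card_subgroup_dvd_card (Subgroup.zpowers d.x)
      rw [Nat.card_zpowers, d.order_x] at h1
      have := Nat.le_of_dvd Nat.card_pos h1
      have : 4 ≤ 2 ^ n := le_trans (by norm_num) (Nat.pow_le_pow_right two_pos d.hn)
      omega
    have hActB : ∀ d : WrData S n, Wr.ActB d F := fun d => by
      by_contra hB
      have hdvd : 2 ∣ 2 ^ n := dvd_pow_self 2 (by have := d.hn; omega)
      let red : Multiplicative (ZMod (2 ^ n)) →* Multiplicative (ZMod 2) :=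
        AddMonoidHom.toMultiplicative (ZMod.castHom hdvd (ZMod 2)).toAddMonoidHom
      refine false_of_char hS hs h4S (Wr.top_mulAut d) (red.comp (Transfer.WR.chi d)) (x₀ := d.a 1 0)
        (by
          rw [MonoidHom.comp_apply, Transfer.WR.chi_a, add_zero]
          show Multiplicative.ofAdd (ZMod.castHom hdvd (ZMod 2) 1) ≠ 1
          rw [map_one]
          exact ofAdd_one_ne) fun E hE α hα x => congrArg red ?_
      rcases Wr.essential_cases hS d hs.1 hE with ⟨-, hA⟩ | ⟨c, he, hA⟩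
      · exact absurd hA hB
      · obtain rfl : E = Transfer.WR.kpre d (2 * c) := Subgroup.map_injective S.subtype_injective he
        obtain ⟨s, hs'⟩ := Transfer.WR.exists_kpre_conj d 0 c
        exact Wr.fixZ_chi d _ (autS F _) (not_pgroup_conj F hs' hA)
          (Wr.le_fixZ d _ _ (fun β hβ k hk => exists_conj_conjAut hS hs.1 hE.2.1 hβ hk) hα) x
    have hActK : ∀ d : WrData S n, Wr.ActK d F := fun d => by
      by_contra hK
      refine false_of_char hS hs h4S (Wr.top_mulAut d)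
        (Transfer.indexTwoHom d.base (Transfer.WR.base_index d)) (x₀ := d.b 0 0) ?_ fun E hE α _ x => ?_
      · rw [Ne, ← MonoidHom.mem_ker, Transfer.indexTwoHom_ker]
        intro h
        obtain ⟨k, l, hk⟩ := d.mem_base.1 h
        exact d.a_ne_b k l 0 0 hk.symm
      · rcases Wr.essential_cases hS d hs.1 hE with ⟨he, -⟩ | ⟨c, -, hA⟩
        · obtain rfl : E = d.base := Subgroup.map_injective S.subtype_injective he
          have h1 : ∀ v : d.base, Transfer.indexTwoHom d.base (Transfer.WR.base_index d) (v : S) = 1 := fun v => by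
            rw [← MonoidHom.mem_ker, Transfer.indexTwoHom_ker]; exact v.2
          rw [h1, h1]
        · exact absurd hA hK
    obtain ⟨d₁, -, hstd⟩ := Wr.exists_std hS d hs.1 (hActB d)
    obtain ⟨q, hq, P, hq3, h4, ⟨d'⟩⟩ := exists_sl3_wr d.hn
    haveI := hq
    let ι₀ : S →* SL(3, ZMod q) := (P : Subgroup _).subtype.comp (Wr.equiv d₁ d').toMonoidHom
    have hι₀ : Function.Injective ι₀ := Subtype.val_injective.comp (Wr.equiv d₁ d').injective
    obtain ⟨d₂, -, hstd₂⟩ := Wr.exists_std hS d₁ (Wr.saturated ι₀ hι₀ P (hrange _ _))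
      (Wr.act_of_perfect hS d₁ ι₀ hι₀ P (hrange _ _) perfect_SL3).1
    let ι := ι₀.comp (Wr.equiv d₁ d₂).toMonoidHom
    have hι : Function.Injective ι := hι₀.comp (Wr.equiv d₁ d₂).injective
    have hP : ι.range = (P : Subgroup SL(3, ZMod q)) := by
      rw [MonoidHom.range_comp, MonoidHom.range_eq_top.2 (Wr.equiv d₁ d₂).surjective,
        ← MonoidHom.range_eq_map, hrange]
    have hs' : Wr.Std d₁ (FusionMetaTwo.realSys ι hι) := Wr.std_transport d₁ ι₀ hι₀ d₂ hstd₂
    obtain ⟨hB', hK'⟩ := Wr.act_of_perfect hS d₁ ι hι P hP perfect_SL3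
    have hsat := Wr.saturated ι hι P hP
    refine ⟨ZMod q, inferInstance, inferInstance, q, ZMod.card q, Nat.odd_iff.2 (by omega), Or.inr
      (isRealizedBy_psl_three hS ι P hP ?_)⟩
    rw [ext_of_le
      (Wr.le_of_act hS d₁ hs.1 (fun h => Wr.autS_base_le hS d₁ hs.1 hsat h hB' hstd hs') fun _ => hK')
      (Wr.le_of_act hS d₁ hsat (fun h => Wr.autS_base_le hS d₁ hsat hs.1 h (hActB d₁) hs' hstd)
        fun _ => hActK d₁)]
    exact FusionMetaTwo.realSys_isRealizedBy ι hι

end Cfsg.Agent.AlperinRankTwo
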